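/-
Generalized quaternion subgroups `Data.S`: squares in the derived subgroup and the central involution.
-/
import Mathlib
import Cfsg.Agent.Lib.SLn.QuatSylow
import Cfsg.Agent.Lib.SpWreath.Group

set_option autoImplicit false
set_option linter.all false

namespace Cfsg.Agent.Lib.SpWreath.Quat

open Subgroup Cfsg.Agent.Lib.SLn.QuatSylow Cfsg.Agent.Lib.SpWreath.Group

variable {G : Type*} [Group G] (D : Data G)

/-- generator `a` inside `S`. -/
def α : D.S := ⟨D.a, D.a_mem_S⟩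
/-- generator `y` inside `S`. -/
def η : D.S := ⟨D.y, D.y_mem⟩

lemma η_conj_α : η D * α D * (η D)⁻¹ = (α D)⁻¹ := by
  apply Subtype.ext
  exact D.inv D.a D.aT

lemma η_conj_zpow (k : ℤ) : η D * α D ^ k * (η D)⁻¹ = (α D) ^ (-k) := by
  rw [← conj_zpow, η_conj_α, inv_zpow, zpow_neg]

lemma α_sq_mem : α D ^ 2 ∈ commutator D.S := by
  have h := Subgroup.commutator_mem_commutator (mem_top (η D)) (mem_top (α D))
  rw [← _root_.commutator_def, commutatorElement_def, η_conj_α] at h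
  have h2 := inv_mem h
  have e : ((α D)⁻¹ * (α D)⁻¹)⁻¹ = α D ^ 2 := by group
  rwa [e] at h2

lemma η_sq : η D * η D = α D ^ (2 ^ (D.v - 1)) := by
  apply Subtype.ext
  exact D.y2

lemma mem_cases (x : D.S) : (∃ k : ℤ, x = α D ^ k) ∨ (∃ k : ℤ, x = η D * α D ^ k) := by
  rcases x.2 with h | h
  · obtain ⟨k, hk⟩ := Subgroup.mem_zpowers_iff.1 h
    left
    refine ⟨k, Subtype.ext ?_⟩
    simpa [α] using hk.symm
  · obtain ⟨k, hk⟩ := Subgroup.mem_zpowers_iff.1 h
    right
    refine ⟨k, Subtype.ext ?_⟩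
    have : ((x : D.S) : G) = D.y * D.a ^ k := by
      rw [hk]
      group
    simpa [α, η] using this

lemma η_sq_pow : η D * η D = (α D ^ 2) ^ (2 ^ (D.v - 2)) := by
  rw [η_sq, ← pow_mul]
  congr 1
  have hv := D.hv
  obtain ⟨w, hw⟩ : ∃ w, D.v = w + 2 := ⟨D.v - 2, by omega⟩
  rw [hw]
  simp only [Nat.add_succ_sub_one, Nat.add_sub_cancel]
  simp [pow_succ]
  ring

lemma η_sq_mem : η D * η D ∈ commutator D.S := by
  rw [η_sq_pow]
  exact pow_mem (α_sq_mem D) _

theorem sq_mem (x : D.S) : x ^ 2 ∈ commutator D.S := by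
  rcases mem_cases D x with ⟨k, rfl⟩ | ⟨k, rfl⟩
  · have e : (α D ^ k) ^ 2 = (α D ^ 2) ^ k := by
      rw [← zpow_natCast, ← zpow_natCast, ← zpow_mul, ← zpow_mul, mul_comm]
    rw [e]
    exact zpow_mem (α_sq_mem D) _
  · have e : (η D * α D ^ k) ^ 2 = η D * η D := by
      have h1 : η D * α D ^ k = α D ^ (-k) * η D := by
        rw [← η_conj_zpow]
        group
      have hcomm : Commute (η D * η D) (α D ^ k) := by
        rw [η_sq]
        exact ((Commute.refl (α D)).pow_left _).zpow_right _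
      calc (η D * α D ^ k) ^ 2 = (α D ^ (-k) * η D) * (η D * α D ^ k) := by
            rw [pow_two]
            nth_rewrite 1 [h1]
            rfl
        _ = α D ^ (-k) * ((η D * η D) * α D ^ k) := by group
        _ = α D ^ (-k) * (α D ^ k * (η D * η D)) := by rw [hcomm.eq]
        _ = η D * η D := by
            rw [← mul_assoc, ← zpow_add]
            simp
    rw [e]
    exact η_sq_mem D

lemma α_pow_v : α D ^ (2 ^ D.v) = 1 := by
  apply Subtype.ext
  show D.a ^ (2 ^ D.v) = 1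
  rw [← D.ord]
  exact pow_orderOf_eq_one _

lemma η_sq_ne_one : η D * η D ≠ 1 := by
  rw [η_sq]
  intro h
  have h1 : D.a ^ (2 ^ (D.v - 1)) = 1 := congrArg Subtype.val h
  have h2 := orderOf_dvd_of_pow_eq_one h1
  rw [D.ord] at h2
  have h3 := Nat.le_of_dvd (by positivity) h2
  have h4 : 2 ^ (D.v - 1) < 2 ^ D.v := Nat.pow_lt_pow_right (by norm_num) (by have := D.hv; omega)
  omega

lemma η_sq_sq : (η D * η D) ^ 2 = 1 := by
  rw [η_sq, ← pow_mul]
  have hv := D.hv
  have : 2 ^ (D.v - 1) * 2 = 2 ^ D.v := by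
    rw [← pow_succ]
    congr 1
    omega
  rw [this, α_pow_v]

lemma η_sq_central (x : D.S) : x * (η D * η D) * x⁻¹ = η D * η D := by
  have hcα : ∀ k : ℤ, Commute (α D ^ k) (η D * η D) := by
    intro k
    rw [η_sq]
    exact (((Commute.refl (α D)).pow_left _).zpow_right k).symm
  have hcη : Commute (η D) (η D * η D) := (Commute.refl _).mul_right (Commute.refl _)
  rcases mem_cases D x with ⟨k, rfl⟩ | ⟨k, rfl⟩
  · rw [(hcα k).eq]
    group
  · have hc : Commute (η D * α D ^ k) (η D * η D) := hcη.mul_left (hcα k)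
    rw [hc.eq]
    group

theorem good : Good D.S 2 1 := by
  refine ⟨sq_mem D, zpowers (η D * η D), ?_, ?_, ?_⟩
  · constructor
    rintro _ ⟨k, rfl⟩ x
    refine ⟨k, ?_⟩
    change (η D * η D) ^ k = x * (η D * η D) ^ k * x⁻¹
    rw [← conj_zpow, η_sq_central]
  · constructor
    · refine ⟨⟨?_⟩⟩
      rintro ⟨_, k, rfl⟩ ⟨_, l, rfl⟩
      apply Subtype.ext
      exact (((Commute.refl (η D * η D)).zpow_left k).zpow_right l).eq
    · rintro _ ⟨k, rfl⟩
      change ((η D * η D) ^ k) ^ 2 = 1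
      rw [← zpow_natCast, ← zpow_mul, mul_comm, zpow_mul, zpow_natCast, η_sq_sq, one_zpow]
  · rw [Nat.card_zpowers, orderOf_eq_prime (η_sq_sq D) (η_sq_ne_one D), pow_one]

lemma derived_one_ne_bot : derivedSeries D.S 1 ≠ ⊥ := by
  intro h
  have h1 : α D ^ 2 ∈ derivedSeries D.S 1 := by
    rw [derivedSeries_succ, derivedSeries_zero]
    exact α_sq_mem D
  rw [h, mem_bot] at h1
  have h2 : D.a ^ 2 = 1 := congrArg Subtype.val h1
  have h3 := orderOf_dvd_of_pow_eq_one h2
  rw [D.ord] at h3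
  have h4 := Nat.le_of_dvd (by norm_num) h3
  have h5 : 2 ^ 2 ≤ 2 ^ D.v := Nat.pow_le_pow_right (by norm_num) D.hv
  omega

end Cfsg.Agent.Lib.SpWreath.Quat
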