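/-
Symplectic representations of abstract groups: wreath products, direct products, embedding into
`Matrix.symplecticGroup`.
-/
import Mathlib
import Cfsg.Agent.Lib.SylowLarge.SpForm
import Cfsg.Agent.S4015

set_option autoImplicit false
set_option linter.all false

namespace Cfsg.Agent.Lib.SpWreath.Rep

open Matrix Module RegularWreathProduct
open Cfsg.Agent.Lib.SylowLarge.SpForm Cfsg.Agent.S4015
open Cfsg.Agent.Lib.Classical.SympForm
open scoped MatrixGroups

universe u

variable {F : Type u} [Field F]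

/-- A faithful symplectic representation. -/
structure IsRep {D V : Type*} [Group D] [AddCommGroup V] [Module F V] (ω : LinearMap.BilinForm F V)
    (f : D →* Module.End F V) : Prop where
  alt : ω.IsAlt
  nd : ω.Nondegenerate
  inj : Function.Injective f
  iso : ∀ d x y, ω (f d x) (f d y) = ω x y

theorem IsRep.wreath {D V Q : Type*} [Group D] [AddCommGroup V] [Module F V] [Group Q] [Fintype Q] [Nontrivial V]
    {ω : LinearMap.BilinForm F V} {f : D →* Module.End F V} (h : IsRep ω f) :
    IsRep (piForm Q ω) (wreathRep (Q := Q) f) := by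
  refine ⟨piForm_isAlt h.alt, piForm_nondegenerate h.alt h.nd, wreathRep_injective f h.inj, ?_⟩
  intro w u v
  simp only [piForm_apply, wreathRep_apply, h.iso]
  exact Equiv.sum_comp (Equiv.mulLeft w.right⁻¹) (fun x => ω (u x) (v x))

/-- The direct product of two representations. -/
noncomputable def prodRep {D₁ D₂ V₁ V₂ : Type*} [Group D₁] [Group D₂] [AddCommGroup V₁] [Module F V₁]
    [AddCommGroup V₂] [Module F V₂] (f₁ : D₁ →* Module.End F V₁) (f₂ : D₂ →* Module.End F V₂) :
    D₁ × D₂ →* Module.End F (V₁ × V₂) where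
  toFun d := LinearMap.prodMap (f₁ d.1) (f₂ d.2)
  map_one' := by
    ext <;> simp
  map_mul' a b := by
    ext <;> simp

@[simp] lemma prodRep_apply {D₁ D₂ V₁ V₂ : Type*} [Group D₁] [Group D₂] [AddCommGroup V₁] [Module F V₁]
    [AddCommGroup V₂] [Module F V₂] (f₁ : D₁ →* Module.End F V₁) (f₂ : D₂ →* Module.End F V₂) (d : D₁ × D₂)
    (v : V₁ × V₂) : prodRep f₁ f₂ d v = (f₁ d.1 v.1, f₂ d.2 v.2) := rfl

theorem IsRep.prod {D₁ D₂ V₁ V₂ : Type*} [Group D₁] [Group D₂] [AddCommGroup V₁] [Module F V₁]
    [AddCommGroup V₂] [Module F V₂] {ω₁ : LinearMap.BilinForm F V₁} {ω₂ : LinearMap.BilinForm F V₂}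
    {f₁ : D₁ →* Module.End F V₁} {f₂ : D₂ →* Module.End F V₂} (h₁ : IsRep ω₁ f₁) (h₂ : IsRep ω₂ f₂) :
    IsRep (sumForm ω₁ ω₂) (prodRep f₁ f₂) := by
  refine ⟨sumForm_isAlt h₁.alt h₂.alt, sumForm_nondegenerate h₁.alt h₂.alt h₁.nd h₂.nd, ?_, ?_⟩
  · intro a b hab
    apply Prod.ext
    · apply h₁.inj
      ext v
      have := congrArg (fun T => (T (v, 0)).1) hab
      simpa using this
    · apply h₂.inj
      ext v
      have := congrArg (fun T => (T (0, v)).2) hab
      simpa using this
  · intro d x y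
    simp [h₁.iso, h₂.iso]

theorem IsRep.trivial : IsRep (F := F) (D := PUnit.{u + 1}) (V := PUnit.{u + 1}) 0 1 := by
  refine ⟨fun _ => rfl, ⟨fun x _ => Subsingleton.elim _ _, fun x _ => Subsingleton.elim _ _⟩,
    fun _ _ _ => Subsingleton.elim _ _, fun _ _ _ => rfl⟩

/-- Embedding into `Sp_{2n}` after padding. -/
theorem IsRep.embed [Finite F] {D V : Type*} [Group D] [AddCommGroup V] [Module F V] [FiniteDimensional F V]
    {ω : LinearMap.BilinForm F V} {f : D →* Module.End F V} (h : IsRep ω f) {k n : ℕ}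
    (hV : finrank F V = 2 * k) (hk : k ≤ n) :
    ∃ g : D →* Matrix.symplecticGroup (Fin n) F, Function.Injective g := by
  classical
  haveI : Finite V := Module.finite_of_finite F
  set j := n - k with hj
  let W := V × (Fin j ⊕ Fin j → F)
  let B : LinearMap.BilinForm F W := sumForm ω (sympBilin j F)
  have hB : B.IsAlt := sumForm_isAlt h.alt sympBilin_isAlt
  have hN : B.Nondegenerate := sumForm_nondegenerate h.alt sympBilin_isAlt h.nd sympBilin_nondegenerate
  have hfin : finrank F W = 2 * n := by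
    simp only [W]
    rw [Module.finrank_prod, hV, Module.finrank_fintype_fun_eq_card]
    simp only [Fintype.card_sum, Fintype.card_fin]
    omega
  have hcard : Nat.card W = Nat.card F ^ (2 * n) := by
    rw [Module.natCard_eq_pow_finrank (K := F), hfin]
  have hone : ∀ a b : D, a * b = 1 → (LinearMap.prodMap (f a) LinearMap.id : W →ₗ[F] W) ∘ₗ
      (LinearMap.prodMap (f b) LinearMap.id) = LinearMap.id := by
    intro a b hab
    ext v <;> simp [← Module.End.mul_apply, ← map_mul, hab]
  let φ : D →* (W ≃ₗ[F] W) := MonoidHom.mk' (fun d =>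
    LinearEquiv.ofLinear (LinearMap.prodMap (f d) LinearMap.id) (LinearMap.prodMap (f d⁻¹) LinearMap.id)
      (hone _ _ (mul_inv_cancel d)) (hone _ _ (inv_mul_cancel d))) (by
      intro a b
      apply LinearEquiv.ext
      rintro ⟨v, w⟩
      change (f (a * b) v, w) = (f a (f b v), w)
      rw [map_mul]
      rfl)
  have hφ : ∀ d v, φ d v = (f d v.1, v.2) := fun d v => rfl
  refine exists_sp_hom rfl B hB hN n hcard φ ?_ ?_
  · intro a b hab
    apply h.inj
    ext1 v
    have := congrArg (fun T : W ≃ₗ[F] W => (T (v, 0)).1) hab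
    simpa [hφ] using this
  · intro a x y
    rw [hφ, hφ]
    change (ω (f a x.1) (f a y.1) + _) = ω x.1 y.1 + _
    rw [h.iso]

section sl2

/-- The standard alternating form on `F²`. -/
noncomputable def om2 : LinearMap.BilinForm F (Fin 2 → F) :=
  LinearMap.mk₂ F (fun x y => x 0 * y 1 - x 1 * y 0)
    (fun a b c => by simp; ring)
    (fun c a b => by simp; ring)
    (fun a b c => by simp; ring)
    (fun c a b => by simp; ring)

@[simp] lemma om2_apply (x y : Fin 2 → F) : om2 x y = x 0 * y 1 - x 1 * y 0 := rfl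

lemma om2_alt : (om2 (F := F)).IsAlt := by
  intro x
  simp [mul_comm]

lemma om2_nd : (om2 (F := F)).Nondegenerate := by
  refine (sep_iff om2_alt).2 ?_
  intro x hx
  have h0 := hx ![1, 0]
  have h1 := hx ![0, 1]
  simp at h0 h1
  funext i
  fin_cases i
  · simpa using h1
  · simpa using h0

/-- `SL₂` acting on `F²`. -/
noncomputable def sl2Rep : SL(2, F) →* Module.End F (Fin 2 → F) :=
  ((Matrix.toLinAlgEquiv' (R := F) (n := Fin 2)).toAlgHom.toMonoidHom).comp
    (Matrix.SpecialLinearGroup.coeMonoidHom)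

lemma sl2Rep_apply (A : SL(2, F)) (x : Fin 2 → F) : sl2Rep A x = (A : Matrix (Fin 2) (Fin 2) F) *ᵥ x := rfl

theorem sl2_isRep : IsRep om2 (sl2Rep (F := F)) := by
  refine ⟨om2_alt, om2_nd, ?_, ?_⟩
  · intro a b hab
    exact Subtype.ext ((Matrix.toLinAlgEquiv' (R := F) (n := Fin 2)).injective hab)
  · intro A x y
    have hdet : (A : Matrix (Fin 2) (Fin 2) F).det = 1 := A.2
    rw [Matrix.det_fin_two] at hdet
    simp only [om2_apply, sl2Rep_apply, Matrix.mulVec, dotProduct, Fin.sum_univ_two]
    linear_combination (x 0 * y 1 - x 1 * y 0) * hdet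

end sl2

/-- Restriction to a subgroup. -/
theorem IsRep.sub {D V : Type*} [Group D] [AddCommGroup V] [Module F V] {ω : LinearMap.BilinForm F V}
    {f : D →* Module.End F V} (h : IsRep ω f) (S : Subgroup D) : IsRep ω (f.comp S.subtype) :=
  ⟨h.alt, h.nd, h.inj.comp Subtype.val_injective, fun d x y => h.iso d x y⟩

end Cfsg.Agent.Lib.SpWreath.Rep
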