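/-
The explicit Sylow `2`-subgroups of `Sp_{2n}(q)`, `q` odd: iterated wreath products of the generalized
quaternion Sylow subgroup of `SL₂(q)`.
-/
import Mathlib
import Cfsg.Agent.Lib.SpWreath.Rep
import Cfsg.Agent.Lib.SpWreath.Quat
import Cfsg.Agent.Lib.Classical.SympCount
import Cfsg.Agent.Lib.Classical.SL2Sylow
import Cfsg.Agent.S2431
import Cfsg.Agent.S4014

set_option autoImplicit false
set_option linter.all false

namespace Cfsg.Agent.Lib.SpWreath.Tower

open Module Subgroup RegularWreathProduct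
open Cfsg.Agent.Lib.SpWreath.Rep Cfsg.Agent.Lib.SpWreath.Group Cfsg.Agent.Lib.SpWreath.Quat
open Cfsg.Agent.Lib.SylowLarge.SpForm Cfsg.Agent.S4015
open scoped MatrixGroups Nat

universe u

section arith

lemma fact_two : Fact (Nat.Prime 2) := ⟨Nat.prime_two⟩

/-- Legendre's formula, in the form we need. -/
lemma legendre_split (a m : ℕ) (h : m < 2 ^ a) :
    padicValNat 2 (2 ^ a + m)! = (2 ^ a - 1) + padicValNat 2 m ! := by
  haveI := fact_two
  have h1 := sub_one_mul_padicValNat_factorial (p := 2) (2 ^ a + m)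
  have h2 := sub_one_mul_padicValNat_factorial (p := 2) m
  simp only [show 2 - 1 = 1 from rfl, one_mul] at h1 h2
  rw [h1, h2]
  have hlen : (Nat.digits 2 m).length ≤ a := (Nat.digits_length_le_iff (by norm_num) m).2 h
  have hd := Nat.digits_append_zeroes_append_digits (b := 2) (k := a - (Nat.digits 2 m).length) (m := 1) (n := m)
    (by norm_num) (by norm_num)
  have e : (Nat.digits 2 m).length + (a - (Nat.digits 2 m).length) = a := by omega
  rw [e, mul_one, add_comm m] at hd
  have hsum : (Nat.digits 2 (2 ^ a + m)).sum = (Nat.digits 2 m).sum + 1 := by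
    rw [← hd]
    simp
  rw [hsum]
  have hle := Nat.digit_sum_le 2 m
  have hpos : 1 ≤ 2 ^ a := Nat.one_le_two_pow
  omega

lemma val_step (q : ℕ) (hq : Odd q) (hq3 : 1 < q) (n : ℕ) :
    padicValNat 2 (q ^ (2 * (n + 1)) - 1) = padicValNat 2 (q + 1) + padicValNat 2 (q - 1) + padicValNat 2 (n + 1) := by
  haveI := fact_two
  have h2 : ¬ 2 ∣ q := by
    exact fun h => (Nat.not_even_iff_odd.2 hq) (even_iff_two_dvd.2 h)
  have h3 : 2 ∣ q - 1 := by
    obtain ⟨t, rfl⟩ := hq
    simp
  have h := padicValNat.pow_two_sub_pow (x := q) (y := 1) hq3 h3 h2 (n := 2 * (n + 1)) (by omega) (even_two_mul _)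
  rw [one_pow, padicValNat.mul (by norm_num) (by omega), padicValNat.self (by norm_num)] at h
  omega

lemma val_prod (q : ℕ) (hq : Odd q) (hq3 : 1 < q) (n : ℕ) :
    padicValNat 2 (∏ i ∈ Finset.range n, (q ^ (2 * (i + 1)) - 1)) =
      n * (padicValNat 2 (q + 1) + padicValNat 2 (q - 1)) + padicValNat 2 n ! := by
  haveI := fact_two
  have hne : ∀ i : ℕ, q ^ (2 * (i + 1)) - 1 ≠ 0 := by
    intro i
    have : 1 < q ^ (2 * (i + 1)) := Nat.one_lt_pow (by omega) hq3
    omega
  induction n with
  | zero => simp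
  | succ n ih =>
    rw [Finset.prod_range_succ, padicValNat.mul (Finset.prod_ne_zero_iff.2 fun i _ => hne i) (hne n), ih,
      val_step q hq hq3 n, Nat.factorial_succ,
      padicValNat.mul (by omega) (Nat.factorial_ne_zero n)]
    ring

end arith

variable (F : Type u) [Field F] [Fintype F]

/-- The `2`-adic valuation of `|SL₂(F)|`. -/
noncomputable def sv : ℕ := (Nat.card (SL(2, F))).factorization 2

lemma q_facts (hF : Odd (Fintype.card F)) : 1 < Fintype.card F := Fintype.one_lt_card

lemma sv_eq (hF : Odd (Fintype.card F)) :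
    sv F = padicValNat 2 (Fintype.card F + 1) + padicValNat 2 (Fintype.card F - 1) := by
  haveI := fact_two
  have hq := q_facts F hF
  rw [sv, Nat.factorization_def _ Nat.prime_two, Cfsg.Agent.Lib.Classical.SL2Sylow.card_SL2,
    padicValNat.mul (by omega) (by
      have : Fintype.card F - 1 ≠ 0 := by omega
      positivity),
    padicValNat.mul (by omega) (by omega), padicValNat.eq_zero_of_not_dvd (p := 2) (n := Fintype.card F)
      (fun h => (Nat.not_even_iff_odd.2 hF) (even_iff_two_dvd.2 h))]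
  ring

theorem val_sp (hF : Odd (Fintype.card F)) (n : ℕ) :
    (Nat.card (Matrix.symplecticGroup (Fin n) F)).factorization 2 = n * sv F + padicValNat 2 n ! := by
  haveI := fact_two
  have hq := q_facts F hF
  rw [Nat.factorization_def _ Nat.prime_two,
    Cfsg.Agent.Lib.Classical.SympCount.card_symplecticGroup (F := F) (q := Fintype.card F) Nat.card_eq_fintype_card n]
  have hne : ∀ i : ℕ, Fintype.card F ^ (2 * (i + 1)) - 1 ≠ 0 := by
    intro i
    have : 1 < Fintype.card F ^ (2 * (i + 1)) := Nat.one_lt_pow (by omega) hq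
    omega
  rw [padicValNat.mul (pow_ne_zero _ (by omega)) (Finset.prod_ne_zero_iff.2 fun i _ => hne i),
    val_prod _ hF hq, sv_eq F hF,
    padicValNat.eq_zero_of_not_dvd (p := 2) (n := Fintype.card F ^ (n ^ 2))]
  · ring
  · intro h
    exact (Nat.not_even_iff_odd.2 (hF.pow)) (even_iff_two_dvd.2 h)

/-- The group `C₂`. -/
abbrev C2 := Multiplicative (ZMod 2)

lemma card_C2 : Nat.card C2 = 2 := by
  simp [Nat.card_eq_fintype_card]

lemma C2_sq (τ : C2) : τ ^ 2 = 1 := by
  have := pow_card_eq_one' (x := τ)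
  rwa [card_C2] at this

lemma exists_C2_ne : ∃ σ : C2, σ ≠ 1 := by
  haveI : Nontrivial C2 := by
    apply Finite.one_lt_card_iff_nontrivial.1
    rw [card_C2]
    norm_num
  exact exists_ne 1

theorem exists_R (hF : Odd (Fintype.card F)) (a : ℕ) :
    ∃ (D : Type u) (_ : Group D) (_ : Finite D) (V : Type u) (_ : AddCommGroup V) (_ : Module F V)
      (_ : FiniteDimensional F V) (ω : LinearMap.BilinForm F V) (f : D →* Module.End F V),
      IsRep ω f ∧ finrank F V = 2 * 2 ^ a ∧ Nat.card D = 2 ^ (2 ^ a * sv F + (2 ^ a - 1)) ∧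
      Good D 2 (2 ^ a) ∧ derivedSeries D (a + 1) ≠ ⊥ := by
  classical
  induction a with
  | zero =>
    obtain ⟨Dq, h1, -, -⟩ := Cfsg.Agent.S2431.exists_data hF
    refine ⟨Dq.S, inferInstance, inferInstance, Fin 2 → F, inferInstance, inferInstance, inferInstance, om2,
      sl2Rep.comp Dq.S.subtype, sl2_isRep.sub _, by simp, ?_, ?_, ?_⟩
    · rw [Dq.card_S, sv, h1]
      simp
      ring
    · simpa using good Dq
    · simpa using derived_one_ne_bot Dq
  | succ a ih =>
    obtain ⟨D, _, _, V, _, _, _, ω, f, hf, hV, hc, hG, hder⟩ := ih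
    haveI : Nontrivial V := by
      apply Module.nontrivial_of_finrank_pos (R := F)
      rw [hV]
      positivity
    obtain ⟨σ, hσ⟩ := exists_C2_ne
    refine ⟨D ≀ᵣ C2, inferInstance, inferInstance, C2 → V, inferInstance, inferInstance, inferInstance,
      piForm C2 ω, wreathRep f, hf.wreath, ?_, ?_, ?_, ?_⟩
    · rw [Module.finrank_pi_fintype]
      simp only [Finset.sum_const, Finset.card_univ, smul_eq_mul, hV]
      rw [← Nat.card_eq_fintype_card, card_C2, pow_succ]
      ring
    · rw [RegularWreathProduct.card, hc, card_C2, ← pow_mul, ← pow_succ]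
      congr 1
      have hpos : 1 ≤ 2 ^ a := Nat.one_le_two_pow
      rw [pow_succ]
      generalize 2 ^ a = t at hpos
      have : t * 2 * sv F = 2 * (t * sv F) := by ring
      rw [this]
      generalize t * sv F = u
      omega
    · have := hG.wreath (Q := C2) C2_sq
      rwa [card_C2, ← pow_succ] at this
    · intro hbot
      apply hder
      rw [eq_bot_iff]
      intro x hx
      obtain ⟨u, hu, -, hu2⟩ := Cfsg.Agent.S4014.lift_derived σ hσ (a + 1) x hx
      rw [hbot, mem_bot] at hu
      rw [mem_bot, ← hu2, hu]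
      rfl

theorem good_trivial : Good PUnit.{u + 1} 2 0 := by
  refine ⟨fun x => ?_, ⊥, inferInstance, ⟨⟨⟨fun a b => Subsingleton.elim _ _⟩⟩, fun a _ => Subsingleton.elim _ _⟩, by simp⟩
  have : x ^ 2 = 1 := Subsingleton.elim _ _
  rw [this]
  exact one_mem _

theorem exists_P (hF : Odd (Fintype.card F)) (n : ℕ) :
    ∃ (D : Type u) (_ : Group D) (_ : Finite D) (V : Type u) (_ : AddCommGroup V) (_ : Module F V)
      (_ : FiniteDimensional F V) (ω : LinearMap.BilinForm F V) (f : D →* Module.End F V),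
      IsRep ω f ∧ finrank F V = 2 * n ∧ Nat.card D = 2 ^ (n * sv F + padicValNat 2 n !) ∧ Good D 2 n := by
  classical
  induction n using Nat.strong_induction_on with
  | _ n ih =>
    rcases Nat.eq_zero_or_pos n with rfl | hn
    · refine ⟨PUnit, inferInstance, inferInstance, PUnit, inferInstance, inferInstance, inferInstance, 0, 1,
        IsRep.trivial, ?_, ?_, good_trivial⟩
      · exact Module.finrank_zero_of_subsingleton
      · simp
    · set a := Nat.log 2 n with ha
      have h1 : 2 ^ a ≤ n := Nat.pow_log_le_self 2 hn.ne'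
      have h2 : n < 2 ^ (a + 1) := Nat.lt_pow_succ_log_self (by norm_num) n
      clear_value a
      clear ha
      obtain ⟨m, rfl⟩ : ∃ m, n = 2 ^ a + m := ⟨n - 2 ^ a, by omega⟩
      have hm : m < 2 ^ a := by
        rw [pow_succ] at h2
        omega
      have hmn : m < 2 ^ a + m := by
        have : 1 ≤ 2 ^ a := Nat.one_le_two_pow
        omega
      obtain ⟨D₁, _, _, V₁, _, _, _, ω₁, f₁, hf₁, hV₁, hc₁, hG₁, -⟩ := exists_R F hF a
      obtain ⟨D₂, _, _, V₂, _, _, _, ω₂, f₂, hf₂, hV₂, hc₂, hG₂⟩ := ih m hmn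
      refine ⟨D₁ × D₂, inferInstance, inferInstance, V₁ × V₂, inferInstance, inferInstance, inferInstance,
        sumForm ω₁ ω₂, prodRep f₁ f₂, hf₁.prod hf₂, ?_, ?_, hG₁.prod hG₂⟩
      · rw [Module.finrank_prod, hV₁, hV₂]
        ring
      · rw [Nat.card_prod, hc₁, hc₂, ← pow_add, legendre_split a m hm]
        congr 1
        ring

/-- Sylow `2`-subgroups of `Sp_{2n}(q)` have the properties `Good`. -/
theorem good_sylow (hF : Odd (Fintype.card F)) (n : ℕ) (P : Sylow 2 (Matrix.symplecticGroup (Fin n) F)) :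
    Good (P : Subgroup (Matrix.symplecticGroup (Fin n) F)) 2 n := by
  classical
  haveI := fact_two
  obtain ⟨D, _, _, V, _, _, _, ω, f, hf, hV, hc, hG⟩ := exists_P F hF n
  obtain ⟨g, hg⟩ := hf.embed hV le_rfl
  have hcard : Nat.card g.range = 2 ^ (Nat.card (Matrix.symplecticGroup (Fin n) F)).factorization 2 := by
    rw [val_sp F hF, Nat.card_congr (MonoidHom.ofInjective hg).symm.toEquiv, hc]
  let S : Sylow 2 (Matrix.symplecticGroup (Fin n) F) := Sylow.ofCard g.range hcard
  have e₁ : D ≃* g.range := MonoidHom.ofInjective hg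
  have e₂ : (S : Subgroup (Matrix.symplecticGroup (Fin n) F)) ≃* P := S.equiv P
  exact (hG.of_equiv e₁).of_equiv e₂

end Cfsg.Agent.Lib.SpWreath.Tower
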