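/-
A generic version of the tower: objects built from a base object by wreath products with `C₂` and direct
products, with a predicate closed under these operations.
-/
import Mathlib
import Cfsg.Agent.Lib.SpWreath.Tower
import Cfsg.Agent.Lib.SpWreath.NRank

set_option autoImplicit false
set_option linter.all false

namespace Cfsg.Agent.Lib.SpWreath.GenTower

open Module Subgroup RegularWreathProduct
open Cfsg.Agent.Lib.SpWreath.Rep Cfsg.Agent.Lib.SpWreath.Group Cfsg.Agent.Lib.SpWreath.Tower
open Cfsg.Agent.S4015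
open scoped Nat

universe u v

variable {F : Type u} [Field F]

lemma prodRep_injective {D₁ D₂ V₁ V₂ : Type*} [Group D₁] [Group D₂] [AddCommGroup V₁] [Module F V₁]
    [AddCommGroup V₂] [Module F V₂] {f₁ : D₁ →* Module.End F V₁} {f₂ : D₂ →* Module.End F V₂}
    (h₁ : Function.Injective f₁) (h₂ : Function.Injective f₂) : Function.Injective (prodRep f₁ f₂) := by
  intro a b hab
  apply Prod.ext
  · apply h₁
    ext v
    have := congrArg (fun T => (T (v, 0)).1) hab
    simpa using this
  · apply h₂
    ext v
    have := congrArg (fun T => (T (0, v)).2) hab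
    simpa using this

/-- Closure data for a predicate on groups with representations. -/
structure Closed (Pr : ∀ (D : Type v) [Group D] (V : Type v) [AddCommGroup V] [Module F V],
    (D →* Module.End F V) → ℕ → Prop) : Prop where
  triv : Pr PUnit PUnit 1 0
  wreath : ∀ (D : Type v) [Group D] [Finite D] (V : Type v) [AddCommGroup V] [Module F V] [FiniteDimensional F V]
    [Nontrivial V] (f : D →* Module.End F V) (k : ℕ), 1 ≤ k → Pr D V f k →
    Pr (D ≀ᵣ C2) (C2 → V) (wreathRep f) (2 * k)
  prod : ∀ (D₁ D₂ : Type v) [Group D₁] [Group D₂] [Finite D₁] [Finite D₂] (V₁ V₂ : Type v) [AddCommGroup V₁]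
    [Module F V₁] [AddCommGroup V₂] [Module F V₂] [FiniteDimensional F V₁] [FiniteDimensional F V₂]
    (f₁ : D₁ →* Module.End F V₁) (f₂ : D₂ →* Module.End F V₂) (k l : ℕ), 1 ≤ k →
    Pr D₁ V₁ f₁ k → Pr D₂ V₂ f₂ l → Pr (D₁ × D₂) (V₁ × V₂) (prodRep f₁ f₂) (k + l)

section

variable {Pr : ∀ (D : Type v) [Group D] (V : Type v) [AddCommGroup V] [Module F V],
    (D →* Module.End F V) → ℕ → Prop} (hPr : Closed (F := F) Pr)
  (D₀ V₀ : Type v) [Group D₀] [Finite D₀] [AddCommGroup V₀] [Module F V₀] [FiniteDimensional F V₀]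
  (f₀ : D₀ →* Module.End F V₀) (hf₀ : Function.Injective f₀) (s d : ℕ) (hc₀ : Nat.card D₀ = 2 ^ s)
  (hd₀ : finrank F V₀ = d) (hd : 1 ≤ d) (Pb : Pr D₀ V₀ f₀ 1)

include hPr hf₀ hc₀ hd₀ hd Pb

theorem exists_level (a : ℕ) :
    ∃ (D : Type v) (_ : Group D) (_ : Finite D) (V : Type v) (_ : AddCommGroup V) (_ : Module F V)
      (_ : FiniteDimensional F V) (f : D →* Module.End F V),
      Function.Injective f ∧ finrank F V = d * 2 ^ a ∧ Nat.card D = 2 ^ (2 ^ a * s + (2 ^ a - 1)) ∧
      Pr D V f (2 ^ a) := by
  classical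
  induction a with
  | zero =>
    refine ⟨D₀, inferInstance, inferInstance, V₀, inferInstance, inferInstance, inferInstance, f₀, hf₀, ?_, ?_, ?_⟩
    · simp [hd₀]
    · simp [hc₀]
    · simpa using Pb
  | succ a ih =>
    obtain ⟨D, _, _, V, _, _, _, f, hf, hV, hc, hP⟩ := ih
    haveI : Nontrivial V := by
      apply Module.nontrivial_of_finrank_pos (R := F)
      rw [hV]
      positivity
    refine ⟨D ≀ᵣ C2, inferInstance, inferInstance, C2 → V, inferInstance, inferInstance, inferInstance,
      wreathRep f, wreathRep_injective f hf, ?_, ?_, ?_⟩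
    · rw [Module.finrank_pi_fintype]
      simp only [Finset.sum_const, Finset.card_univ, smul_eq_mul, hV]
      rw [← Nat.card_eq_fintype_card, card_C2, pow_succ]
      ring
    · rw [RegularWreathProduct.card, hc, card_C2, ← pow_mul, ← pow_succ]
      congr 1
      have hpos : 1 ≤ 2 ^ a := Nat.one_le_two_pow
      rw [pow_succ]
      generalize 2 ^ a = t at hpos
      have : t * 2 * s = 2 * (t * s) := by ring
      rw [this]
      generalize t * s = u
      omega
    · have := hPr.wreath D V f (2 ^ a) Nat.one_le_two_pow hP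
      rwa [← pow_succ'] at this

theorem exists_all (n : ℕ) :
    ∃ (D : Type v) (_ : Group D) (_ : Finite D) (V : Type v) (_ : AddCommGroup V) (_ : Module F V)
      (_ : FiniteDimensional F V) (f : D →* Module.End F V),
      Function.Injective f ∧ finrank F V = d * n ∧ Nat.card D = 2 ^ (n * s + padicValNat 2 n !) ∧
      Pr D V f n := by
  classical
  induction n using Nat.strong_induction_on with
  | _ n ih =>
    rcases Nat.eq_zero_or_pos n with rfl | hn
    · refine ⟨PUnit, inferInstance, inferInstance, PUnit, inferInstance, inferInstance, inferInstance, 1,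
        fun _ _ _ => Subsingleton.elim _ _, ?_, ?_, hPr.triv⟩
      · exact Module.finrank_zero_of_subsingleton.trans (by simp)
      · simp
    · set a := Nat.log 2 n with ha
      have h1 : 2 ^ a ≤ n := Nat.pow_log_le_self 2 hn.ne'
      have h2 : n < 2 ^ (a + 1) := Nat.lt_pow_succ_log_self (by norm_num) n
      clear_value a
      clear ha
      obtain ⟨m, rfl⟩ : ∃ m, n = 2 ^ a + m := ⟨n - 2 ^ a, by omega⟩
      have hm : m < 2 ^ a := by
        rw [pow_succ] at h2
        omega
      have hmn : m < 2 ^ a + m := by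
        have : 1 ≤ 2 ^ a := Nat.one_le_two_pow
        omega
      obtain ⟨D₁, _, _, V₁, _, _, _, f₁, hf₁, hV₁, hc₁, hG₁⟩ :=
        exists_level hPr D₀ V₀ f₀ hf₀ s d hc₀ hd₀ hd Pb a
      obtain ⟨D₂, _, _, V₂, _, _, _, f₂, hf₂, hV₂, hc₂, hG₂⟩ := ih m hmn
      refine ⟨D₁ × D₂, inferInstance, inferInstance, V₁ × V₂, inferInstance, inferInstance, inferInstance,
        prodRep f₁ f₂, prodRep_injective hf₁ hf₂, ?_, ?_, hPr.prod _ _ _ _ _ _ _ _ Nat.one_le_two_pow hG₁ hG₂⟩
      · rw [Module.finrank_prod, hV₁, hV₂]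
        ring
      · rw [Nat.card_prod, hc₁, hc₂, ← pow_add, legendre_split a m hm]
        congr 1
        ring

end

/-- An injective homomorphism from a group whose order is the `2`-part gives isomorphisms with the Sylows. -/
theorem sylow_equiv {G D : Type*} [Group G] [Finite G] [Group D] (g : D →* G) (hg : Function.Injective g)
    (hc : Nat.card D = 2 ^ (Nat.card G).factorization 2) (P : Sylow 2 G) :
    Nonempty (D ≃* (P : Subgroup G)) := by
  haveI := fact_two
  have hcard : Nat.card g.range = 2 ^ (Nat.card G).factorization 2 := by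
    rw [Nat.card_congr (MonoidHom.ofInjective hg).symm.toEquiv, hc]
  let S : Sylow 2 G := Sylow.ofCard g.range hcard
  have e₁ : D ≃* g.range := MonoidHom.ofInjective hg
  have e₂ : (S : Subgroup G) ≃* P := S.equiv P
  exact ⟨e₁.trans e₂⟩

end Cfsg.Agent.Lib.SpWreath.GenTower
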