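/-
Determinants on wreath product representations and products; embedding into `SL_n`.
-/
import Mathlib
import Cfsg.Agent.Lib.SpWreath.NPow
import Cfsg.Agent.Lib.SpWreath.GenTower
import Cfsg.Agent.Lib.SpWreath.Quat
import Cfsg.Agent.Lib.Classical.SLBasic

set_option autoImplicit false
set_option linter.all false

namespace Cfsg.Agent.Lib.SpWreath.DetW

open Module Subgroup RegularWreathProduct
open Cfsg.Agent.Lib.SpWreath.Rep Cfsg.Agent.Lib.SpWreath.Group Cfsg.Agent.Lib.SpWreath.NRank
open Cfsg.Agent.Lib.SpWreath.NPow Cfsg.Agent.Lib.SpWreath.GenTower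
open Cfsg.Agent.S4015

universe u

variable {F : Type u} [Field F]

section swap

lemma sign_sumComm (ι : Type*) [Fintype ι] [DecidableEq ι] (h : Even (Fintype.card ι)) :
    Equiv.Perm.sign (Equiv.sumComm ι ι) = 1 := by
  let e : Bool × ι ≃ ι ⊕ ι := Equiv.boolProdEquivSum ι
  let P : Equiv.Perm (Bool × ι) := Equiv.prodCongrLeft (fun _ : ι => Equiv.swap false true)
  have h1 : e.permCongr P = Equiv.sumComm ι ι := by
    ext x
    rcases x with i | i
    · simp [e, P, Equiv.permCongr_apply, Equiv.boolProdEquivSum]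
    · simp [e, P, Equiv.permCongr_apply, Equiv.boolProdEquivSum]
  rw [← h1, Equiv.Perm.sign_permCongr, Equiv.Perm.sign_prodCongrLeft]
  simp [Equiv.Perm.sign_swap, h.neg_one_pow]

variable {V : Type*} [AddCommGroup V] [Module F V]

/-- The swap on `V × V`. -/
def swapV : (V × V) →ₗ[F] (V × V) := LinearMap.prod (LinearMap.snd F V V) (LinearMap.fst F V V)

@[simp] lemma swapV_apply (p : V × V) : swapV (F := F) p = (p.2, p.1) := rfl

lemma det_swap [FiniteDimensional F V] (h : Even (finrank F V)) : LinearMap.det (swapV (F := F) (V := V)) = 1 := by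
  classical
  let b := Module.finBasis F V
  let B := b.prod b
  have hM : LinearMap.toMatrix B B (swapV (F := F) (V := V)) =
      (1 : Matrix (Fin (finrank F V) ⊕ Fin (finrank F V)) (Fin (finrank F V) ⊕ Fin (finrank F V)) F).submatrix id
        (Equiv.sumComm _ _) := by
    ext i j
    rw [LinearMap.toMatrix_apply]
    rcases j with a | a
    · have e : swapV (F := F) (B (Sum.inl a)) = B (Sum.inr a) := by
        simp [B, Module.Basis.prod_apply]
      rw [e, Module.Basis.repr_self, Finsupp.single_apply]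
      simp [Matrix.one_apply, eq_comm]
      congr
    · have e : swapV (F := F) (B (Sum.inr a)) = B (Sum.inl a) := by
        simp [B, Module.Basis.prod_apply]
      rw [e, Module.Basis.repr_self, Finsupp.single_apply]
      simp [Matrix.one_apply, eq_comm]
      congr
  rw [← LinearMap.det_toMatrix B, hM, Matrix.det_permute', sign_sumComm]
  · simp
  · simpa using h

/-- `C₂ → V` is `V × V`. -/
def e2 : (C2 → V) ≃ₗ[F] V × V where
  toFun v := (v 1, v (Multiplicative.ofAdd 1))
  invFun p := fun c => if c = 1 then p.1 else p.2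
  map_add' a b := rfl
  map_smul' c a := rfl
  left_inv v := by
    funext c
    by_cases hc : c = 1
    · subst hc
      simp
    · have : c = Multiplicative.ofAdd 1 := C2_cases _ s_ne c |>.resolve_left hc
      subst this
      simp [hc]
  right_inv p := by
    apply Prod.ext
    · simp
    · simp [s_ne]

lemma det_bp [FiniteDimensional F V] {D : Type*} [Group D] (f : D →* Module.End F V) (a b : D) :
    LinearMap.det (wreathRep f (bp a b)) = LinearMap.det (f a) * LinearMap.det (f b) := by
  rw [← LinearMap.det_conj (wreathRep f (bp a b)) (e2 (F := F) (V := V)), ← LinearMap.det_prodMap]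
  congr 1
  ext v
  · simp [e2, wreathRep_apply, bp]
  · simp [e2, wreathRep_apply, bp, s_ne]
  · simp [e2, wreathRep_apply, bp]
  · simp [e2, wreathRep_apply, bp, s_ne]

lemma det_yy [FiniteDimensional F V] {D : Type*} [Group D] (f : D →* Module.End F V)
    (h : Even (finrank F V)) : LinearMap.det (wreathRep f (yy : D ≀ᵣ C2)) = 1 := by
  rw [← LinearMap.det_conj (wreathRep f (yy : D ≀ᵣ C2)) (e2 (F := F) (V := V))]
  rw [← det_swap (F := F) (V := V) h]
  congr 1
  apply LinearMap.ext
  rintro ⟨x, y⟩
  have h1 : ((Multiplicative.ofAdd 1 : C2)⁻¹) = Multiplicative.ofAdd 1 := by decide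
  have h2 : ((Multiplicative.ofAdd 1 : C2)⁻¹ * Multiplicative.ofAdd 1) = 1 := by decide
  apply Prod.ext
  · simp [e2, wreathRep_apply, yy, h1, s_ne]
  · simp [e2, wreathRep_apply, yy, h2]

end swap

/-- the determinant homomorphism of a representation. -/
noncomputable def detHom {D V : Type*} [Group D] [AddCommGroup V] [Module F V] (f : D →* Module.End F V) : D →* F :=
  (LinearMap.det (A := F) (M := V)).comp f

@[simp] lemma detHom_apply {D V : Type*} [Group D] [AddCommGroup V] [Module F V] (f : D →* Module.End F V) (d : D) :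
    detHom f d = LinearMap.det (f d) := rfl

theorem npow_wreathRep {D V : Type*} [Group D] [AddCommGroup V] [Module F V] [FiniteDimensional F V]
    (f : D →* Module.End F V) (hV : Even (finrank F V)) (h : NPow (detHom f)) :
    NPow (detHom (wreathRep (Q := C2) f)) :=
  NPow.wreath h _ (fun a b => det_bp f a b) (det_yy f hV)

lemma detHom_prod {D₁ D₂ V₁ V₂ : Type*} [Group D₁] [Group D₂] [AddCommGroup V₁] [Module F V₁] [AddCommGroup V₂]
    [Module F V₂] [FiniteDimensional F V₁] [FiniteDimensional F V₂] (f₁ : D₁ →* Module.End F V₁)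
    (f₂ : D₂ →* Module.End F V₂) : detHom (prodRep f₁ f₂) = prodHom (detHom f₁) (detHom f₂) := by
  ext x
  exact LinearMap.det_prodMap _ _

/-- Embedding into `SL_n`. -/
theorem toSL {D V : Type*} [Group D] [AddCommGroup V] [Module F V] [FiniteDimensional F V] (n : ℕ)
    (hn : finrank F V = n) (f : D →* Module.End F V) (hf : Function.Injective f)
    (hdet : ∀ d, LinearMap.det (f d) = 1) :
    ∃ g : D →* Matrix.SpecialLinearGroup (Fin n) F, Function.Injective g := by
  classical
  have hW : finrank F V = finrank F (Fin n → F) := by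
    rw [Module.finrank_fin_fun, hn]
  let e₀ : V ≃ₗ[F] (Fin n → F) := LinearEquiv.ofFinrankEq _ _ hW
  let f₃ : D →* Matrix (Fin n) (Fin n) F :=
    ((Matrix.toLinAlgEquiv' (R := F) (n := Fin n)).symm.toAlgHom.toMonoidHom).comp
      ((e₀.conjRingEquiv.toMonoidHom).comp f)
  have hd : ∀ d, (f₃ d).det = 1 := by
    intro d
    have h1 : LinearMap.det (Matrix.toLin' (f₃ d)) = (f₃ d).det := LinearMap.det_toLin' _
    rw [← h1]
    have h2 : Matrix.toLin' (f₃ d) = e₀.conjRingEquiv (f d) := (Matrix.toLinAlgEquiv' (R := F) (n := Fin n)).apply_symm_apply _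
    rw [h2]
    have h3 : e₀.conjRingEquiv (f d) = (e₀ : V →ₗ[F] (Fin n → F)) ∘ₗ (f d) ∘ₗ (e₀.symm : (Fin n → F) →ₗ[F] V) := rfl
    rw [h3, LinearMap.det_conj, hdet]
  refine ⟨MonoidHom.mk' (fun d => ⟨f₃ d, hd d⟩) (fun a b => Subtype.ext (map_mul f₃ a b)), ?_⟩
  intro a b hab
  have h1 : f₃ a = f₃ b := congrArg Subtype.val hab
  have h2 := (Matrix.toLinAlgEquiv' (R := F) (n := Fin n)).symm.injective h1
  have h3 := e₀.conjRingEquiv.injective h2
  exact hf h3

section sylow

variable [Fintype F]

/-- The kernel of the determinant has the order of the Sylow `2`-subgroups of `SL_n`. -/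
theorem card_ker_det (n : ℕ) (hn : 1 ≤ n) {D V : Type*} [Group D] [Finite D] [AddCommGroup V] [Module F V]
    [FiniteDimensional F V] (f : D →* Module.End F V) (hf : Function.Injective f) (hV : finrank F V = n)
    (hc : Nat.card D = 2 ^ (Nat.card (Matrix.GeneralLinearGroup (Fin n) F)).factorization 2) :
    Nat.card (detHom f).ker = 2 ^ (Nat.card (Matrix.SpecialLinearGroup (Fin n) F)).factorization 2 := by
  classical
  haveI : Nonempty (Fin n) := ⟨⟨0, hn⟩⟩
  haveI : Fact (Nat.Prime 2) := ⟨Nat.prime_two⟩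
  have hq : 1 < Fintype.card F := Fintype.one_lt_card
  have hGL := Cfsg.Agent.Lib.Classical.SLBasic.card_gl_eq_mul_card_sl (ι := Fin n) (F := F)
  set u := (Nat.card (Matrix.GeneralLinearGroup (Fin n) F)).factorization 2 with hu
  set v := (Nat.card (Matrix.SpecialLinearGroup (Fin n) F)).factorization 2 with hv
  have hSL0 : Nat.card (Matrix.SpecialLinearGroup (Fin n) F) ≠ 0 := Nat.card_pos.ne'
  have hq0 : Fintype.card F - 1 ≠ 0 := by omega
  have huv : u = (Fintype.card F - 1).factorization 2 + v := by
    rw [hu, hGL, Nat.factorization_mul hq0 hSL0]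
    rfl
  let σ' : D →* Fˣ := (detHom f).toHomUnits
  have hker : σ'.ker = (detHom f).ker := by
    ext x
    rw [MonoidHom.mem_ker, MonoidHom.mem_ker, Units.ext_iff]
    rfl
  obtain ⟨g, hg⟩ := toSL (D := (detHom f).ker) n hV (f.comp (detHom f).ker.subtype)
    (hf.comp Subtype.val_injective) (fun d => d.2)
  have h1 : Nat.card (detHom f).ker ∣ Nat.card (Matrix.SpecialLinearGroup (Fin n) F) :=
    Subgroup.card_dvd_of_injective g hg
  have h2 : Nat.card (detHom f).ker ∣ 2 ^ u := by
    rw [← hc]
    exact Subgroup.card_subgroup_dvd_card _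
  obtain ⟨a, -, ha⟩ := (Nat.dvd_prime_pow Nat.prime_two).1 h2
  have hcard : Nat.card D = Nat.card (detHom f).ker * Nat.card σ'.range := by
    rw [← Subgroup.index_ker, hker, Subgroup.card_mul_index]
  have h3 : Nat.card σ'.range ∣ 2 ^ u := by
    rw [← hc, hcard]
    exact Dvd.intro_left _ rfl
  obtain ⟨b, -, hb⟩ := (Nat.dvd_prime_pow Nat.prime_two).1 h3
  have h4 : Nat.card σ'.range ∣ Fintype.card F - 1 := by
    have := Subgroup.card_subgroup_dvd_card σ'.range
    rwa [Nat.card_eq_fintype_card (α := Fˣ), Fintype.card_units] at this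
  have hale : a ≤ v := by
    rw [ha] at h1
    exact (Nat.Prime.pow_dvd_iff_le_factorization Nat.prime_two hSL0).1 h1
  have hble : b ≤ (Fintype.card F - 1).factorization 2 := by
    rw [hb] at h4
    exact (Nat.Prime.pow_dvd_iff_le_factorization Nat.prime_two hq0).1 h4
  have hsum : u = a + b := by
    have h5 : 2 ^ u = 2 ^ (a + b) := by
      rw [pow_add, ← ha, ← hb, ← hcard, hc]
    exact Nat.pow_right_injective (le_refl 2) h5
  rw [ha]
  congr 1
  omega

/-- The kernel of the determinant is a Sylow `2`-subgroup of `SL_n`. -/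
theorem sylow_ker_det (n : ℕ) (hn : 1 ≤ n) {D V : Type*} [Group D] [Finite D] [AddCommGroup V] [Module F V]
    [FiniteDimensional F V] (f : D →* Module.End F V) (hf : Function.Injective f) (hV : finrank F V = n)
    (hc : Nat.card D = 2 ^ (Nat.card (Matrix.GeneralLinearGroup (Fin n) F)).factorization 2)
    (P : Sylow 2 (Matrix.SpecialLinearGroup (Fin n) F)) :
    Nonempty ((detHom f).ker ≃* (P : Subgroup (Matrix.SpecialLinearGroup (Fin n) F))) := by
  obtain ⟨g, hg⟩ := toSL (D := (detHom f).ker) n hV (f.comp (detHom f).ker.subtype)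
    (hf.comp Subtype.val_injective) (fun d => d.2)
  exact sylow_equiv g hg (card_ker_det n hn f hf hV hc) P

/-- Squares under isomorphism. -/
lemma sq_of_equiv {G H : Type*} [Group G] [Group H] (e : G ≃* H) (h : ∀ x : G, x ^ 2 ∈ commutator G) (x : H) :
    x ^ 2 ∈ commutator H := by
  have he : (commutator G).map e.toMonoidHom = commutator H := by
    simp only [_root_.commutator_def]
    rw [Subgroup.map_commutator, ← MonoidHom.range_eq_map]
    rw [MonoidHom.range_eq_top.2 e.surjective]
  rw [← he]
  refine ⟨e.symm x ^ 2, h _, ?_⟩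
  simp

/-- The base: `NPow` for two-dimensional representations with the right order. -/
theorem npow_base (hF : Odd (Fintype.card F)) {D V : Type*} [Group D] [Finite D] [AddCommGroup V] [Module F V]
    [FiniteDimensional F V] (f : D →* Module.End F V) (hf : Function.Injective f) (hV : finrank F V = 2)
    (hc : Nat.card D = 2 ^ (Nat.card (Matrix.GeneralLinearGroup (Fin 2) F)).factorization 2) :
    NPow (detHom f) := by
  classical
  haveI : Fact (Nat.Prime 2) := ⟨Nat.prime_two⟩
  obtain ⟨Dq, h1, -, -⟩ := Cfsg.Agent.S2431.exists_data hF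
  have hS : Nat.card Dq.S = 2 ^ (Nat.card (Matrix.SpecialLinearGroup (Fin 2) F)).factorization 2 := by
    rw [Dq.card_S]
    have : (Nat.card (Matrix.SpecialLinearGroup (Fin 2) F)).factorization 2 = Dq.v + 1 := h1
    rw [this, pow_succ]
    ring
  let S : Sylow 2 (Matrix.SpecialLinearGroup (Fin 2) F) := Sylow.ofCard Dq.S hS
  obtain ⟨e⟩ := sylow_ker_det 2 (by norm_num) f hf hV hc S
  have e' : Dq.S ≃* (detHom f).ker := e.symm
  apply npow_of_sq
  exact sq_of_equiv e' (Cfsg.Agent.Lib.SpWreath.Quat.sq_mem Dq)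

end sylow

end Cfsg.Agent.Lib.SpWreath.DetW
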