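/-
The `2`-adic valuation of `|GL_n(q)|`, `q` odd.
-/
import Mathlib
import Cfsg.Agent.Lib.SpWreath.Tower

set_option autoImplicit false
set_option linter.all false

namespace Cfsg.Agent.Lib.SpWreath.GLVal

open Cfsg.Agent.Lib.SpWreath.Tower
open scoped Nat

/-- The order polynomial of `GL_n`. -/
def glp (q n : ℕ) : ℕ := ∏ i : Fin n, (q ^ n - q ^ (i : ℕ))

lemma glp_ne (q n : ℕ) (hq : 1 < q) : glp q n ≠ 0 := by
  refine Finset.prod_ne_zero_iff.2 fun i _ => ?_
  have : q ^ (i : ℕ) < q ^ n := Nat.pow_lt_pow_right hq i.2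
  omega

lemma glp_succ (q n : ℕ) : glp q (n + 1) = (q ^ (n + 1) - 1) * (q ^ n * glp q n) := by
  simp only [glp]
  rw [Fin.prod_univ_succ]
  simp only [Fin.val_zero, pow_zero, Fin.val_succ]
  congr 1
  have : ∀ i : Fin n, q ^ (n + 1) - q ^ ((i : ℕ) + 1) = q * (q ^ n - q ^ (i : ℕ)) := by
    intro i
    rw [Nat.mul_sub, pow_succ', pow_succ']
  simp only [this]
  rw [Finset.prod_mul_distrib]
  simp

lemma val_glp_succ (q n : ℕ) (hq : Odd q) (hq1 : 1 < q) :
    padicValNat 2 (glp q (n + 1)) = padicValNat 2 (q ^ (n + 1) - 1) + padicValNat 2 (glp q n) := by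
  haveI := fact_two
  have h1 : q ^ (n + 1) - 1 ≠ 0 := by
    have : 1 < q ^ (n + 1) := Nat.one_lt_pow (by omega) hq1
    omega
  rw [glp_succ, padicValNat.mul h1 (mul_ne_zero (pow_ne_zero _ (by omega)) (glp_ne q n hq1)),
    padicValNat.mul (pow_ne_zero _ (by omega)) (glp_ne q n hq1),
    padicValNat.eq_zero_of_not_dvd (p := 2) (n := q ^ n) (fun h =>
      (Nat.not_even_iff_odd.2 hq.pow) (even_iff_two_dvd.2 h))]
  simp

/-- LTE for `q ≡ 1 mod 4`. -/
lemma val_pow_one (q j : ℕ) (hq : q % 4 = 1) (hq1 : 1 < q) (hj : j ≠ 0) :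
    padicValNat 2 (q ^ j - 1) = padicValNat 2 (q - 1) + padicValNat 2 j := by
  haveI := fact_two
  have h1 : q ^ j - 1 ≠ 0 := by
    have : 1 < q ^ j := Nat.one_lt_pow hj hq1
    omega
  have h4 : (4 : ℤ) ∣ (q : ℤ) - 1 := by omega
  have h2 : ¬ (2 : ℤ) ∣ (q : ℤ) := by omega
  have h := Int.two_pow_sub_pow' (x := (q : ℤ)) (y := 1) j h4 h2
  rw [one_pow] at h
  have e1 : (q : ℤ) ^ j - 1 = ((q ^ j - 1 : ℕ) : ℤ) := by
    rw [Nat.cast_sub (Nat.one_le_pow _ _ (by omega))]
    push_cast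
    rfl
  have e2 : (q : ℤ) - 1 = ((q - 1 : ℕ) : ℤ) := by
    rw [Nat.cast_sub (by omega)]
    push_cast
    rfl
  rw [e1, e2] at h
  have e3 : (2 : ℤ) = ((2 : ℕ) : ℤ) := rfl
  rw [e3, Int.natCast_emultiplicity, Int.natCast_emultiplicity, Int.natCast_emultiplicity] at h
  rw [← padicValNat_eq_emultiplicity h1, ← padicValNat_eq_emultiplicity (show q - 1 ≠ 0 by omega),
    ← padicValNat_eq_emultiplicity hj] at h
  exact_mod_cast h

theorem val_glp_one (q : ℕ) (hq : q % 4 = 1) (hq1 : 1 < q) (n : ℕ) :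
    padicValNat 2 (glp q n) = n * padicValNat 2 (q - 1) + padicValNat 2 n ! := by
  haveI := fact_two
  have hodd : Odd q := by
    rw [Nat.odd_iff]
    omega
  induction n with
  | zero => simp [glp]
  | succ n ih =>
    rw [val_glp_succ q n hodd hq1, ih, val_pow_one q (n + 1) hq hq1 (by omega), Nat.factorial_succ,
      padicValNat.mul (by omega) (Nat.factorial_ne_zero n)]
    ring

lemma val_odd_three (q j : ℕ) (hq : q % 4 = 3) (hj : j % 2 = 1) : padicValNat 2 (q ^ j - 1) = 1 := by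
  haveI := fact_two
  have h3 : q ^ j % 4 = 3 := by
    obtain ⟨l, rfl⟩ : ∃ l, j = 2 * l + 1 := ⟨j / 2, by omega⟩
    have h2 : q ^ 2 % 4 = 1 := by
      rw [Nat.pow_mod, hq]
    rw [pow_succ, pow_mul, Nat.mul_mod, Nat.pow_mod, h2, hq]
    simp
  obtain ⟨c, hc⟩ : ∃ c, q ^ j - 1 = 2 * (2 * c + 1) := ⟨(q ^ j - 3) / 4, by omega⟩
  rw [hc, padicValNat.mul (by norm_num) (by omega), padicValNat.self (by norm_num),
    padicValNat.eq_zero_of_not_dvd (by omega)]

theorem val_glp_three (q : ℕ) (hq : q % 4 = 3) (hq1 : 1 < q) (m : ℕ) :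
    padicValNat 2 (glp q (2 * m)) = m * (padicValNat 2 (q + 1) + 2) + padicValNat 2 m ! ∧
    padicValNat 2 (glp q (2 * m + 1)) = m * (padicValNat 2 (q + 1) + 2) + padicValNat 2 m ! + 1 := by
  haveI := fact_two
  have hodd : Odd q := by
    rw [Nat.odd_iff]
    omega
  have hv : padicValNat 2 (q - 1) = 1 := by
    have := val_odd_three q 1 hq (by norm_num)
    simpa using this
  have hstep : ∀ m, padicValNat 2 (glp q (2 * m)) = m * (padicValNat 2 (q + 1) + 2) + padicValNat 2 m ! →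
      padicValNat 2 (glp q (2 * m + 1)) = m * (padicValNat 2 (q + 1) + 2) + padicValNat 2 m ! + 1 := by
    intro m h
    rw [val_glp_succ q _ hodd hq1, h, val_odd_three q (2 * m + 1) hq (by omega)]
    ring
  have hmain : padicValNat 2 (glp q (2 * m)) = m * (padicValNat 2 (q + 1) + 2) + padicValNat 2 m ! := by
    induction m with
    | zero => simp [glp]
    | succ m ih =>
      have h1 := hstep m ih
      have e : 2 * (m + 1) = 2 * m + 1 + 1 := by ring
      rw [e, val_glp_succ q _ hodd hq1, h1]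
      have h2 := val_step q hodd hq1 m
      have e2 : 2 * m + 1 + 1 = 2 * (m + 1) := by ring
      rw [e2, h2, hv, Nat.factorial_succ, padicValNat.mul (by omega) (Nat.factorial_ne_zero m)]
      ring
  exact ⟨hmain, hstep m hmain⟩

end Cfsg.Agent.Lib.SpWreath.GLVal
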