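/-
Abstract semidihedral subgroups `⟨a⟩ ∪ ⟨a⟩ φ`.
-/
import Mathlib
import Cfsg.Agent.Lib.SpWreath.NRank

set_option autoImplicit false
set_option linter.all false

namespace Cfsg.Agent.Lib.SpWreath.SD

open Subgroup Cfsg.Agent.Lib.SpWreath.Group Cfsg.Agent.Lib.SpWreath.NRank

/-- Data of a semidihedral subgroup. -/
structure SDData (G : Type*) [Group G] where
  a : G
  φ : G
  r : ℕ
  t : ℕ
  ht : 2 ≤ t
  ord : orderOf a = 2 ^ (t + 1)
  φφ : φ * φ = 1
  conj : φ * a * φ⁻¹ = a ^ r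
  hφ : φ ∉ zpowers a
  r3 : r % 4 = 3

namespace SDData

variable {G : Type*} [Group G] (D : SDData G)

def A : Subgroup G := zpowers D.a

lemma φ_inv : D.φ⁻¹ = D.φ := inv_eq_of_mul_eq_one_left D.φφ

lemma conj_zpow (k : ℤ) : D.φ * D.a ^ k * D.φ⁻¹ = (D.a ^ D.r) ^ k := by
  rw [← _root_.conj_zpow, D.conj]

lemma conj_mem {x : G} (hx : x ∈ D.A) : D.φ * x * D.φ⁻¹ ∈ D.A := by
  obtain ⟨k, rfl⟩ := hx
  change D.φ * D.a ^ k * D.φ⁻¹ ∈ D.A
  rw [conj_zpow]
  exact zpow_mem (pow_mem (mem_zpowers _) _) _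

/-- The subgroup. -/
def S : Subgroup G where
  carrier := {g | g ∈ D.A ∨ g * D.φ ∈ D.A}
  one_mem' := Or.inl (one_mem _)
  mul_mem' := by
    rintro g g' (hg | hg) (hg' | hg')
    · exact Or.inl (mul_mem hg hg')
    · right
      rw [mul_assoc]
      exact mul_mem hg hg'
    · right
      have e : g * g' * D.φ = (g * D.φ) * (D.φ * g' * D.φ⁻¹) := by
        rw [φ_inv]
        calc g * g' * D.φ = g * (D.φ * D.φ) * g' * D.φ := by rw [D.φφ, mul_one]
          _ = _ := by group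
      rw [e]
      exact mul_mem hg (D.conj_mem hg')
    · left
      have e : g * g' = (g * D.φ) * (D.φ * (g' * D.φ) * D.φ⁻¹) := by
        rw [φ_inv]
        calc g * g' = g * (D.φ * D.φ) * g' * (D.φ * D.φ) := by rw [D.φφ, mul_one, mul_one]
          _ = _ := by group
      rw [e]
      exact mul_mem hg (D.conj_mem hg')
  inv_mem' := by
    rintro g (hg | hg)
    · exact Or.inl (inv_mem hg)
    · right
      have e : g⁻¹ * D.φ = D.φ * (g * D.φ)⁻¹ * D.φ⁻¹ := by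
        rw [φ_inv, mul_inv_rev, φ_inv]
        calc g⁻¹ * D.φ = (D.φ * D.φ) * g⁻¹ * D.φ := by rw [D.φφ, one_mul]
          _ = _ := by group
      rw [e]
      exact D.conj_mem (inv_mem hg)

lemma mem_S_iff {g : G} : g ∈ D.S ↔ g ∈ D.A ∨ g * D.φ ∈ D.A := Iff.rfl

lemma a_mem : D.a ∈ D.S := Or.inl (mem_zpowers _)

lemma φ_mem : D.φ ∈ D.S := by
  right
  rw [D.φφ]
  exact one_mem _

lemma card_S : Nat.card D.S = 2 * 2 ^ (D.t + 1) := by
  classical
  have hc : Nat.card D.A = 2 ^ (D.t + 1) := by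
    rw [A, Nat.card_zpowers, D.ord]
  let Ψ : D.A × Bool → D.S := fun p =>
    if p.2 then ⟨(p.1 : G) * D.φ, by
      right
      rw [mul_assoc, D.φφ, mul_one]
      exact p.1.2⟩ else ⟨p.1, Or.inl p.1.2⟩
  have hΨ : Function.Bijective Ψ := by
    constructor
    · rintro ⟨x, b⟩ ⟨y, c⟩ h
      cases b <;> cases c
      · have h' := congrArg Subtype.val h
        simp only [Ψ, Bool.false_eq_true, if_false] at h'
        simp [Subtype.ext h']
      · exfalso
        have h1 := congrArg Subtype.val h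
        simp only [Ψ, Bool.false_eq_true, if_false, if_true] at h1
        apply D.hφ
        have h2 : D.φ = (y : G)⁻¹ * x := by
          rw [h1]
          group
        change D.φ ∈ D.A
        rw [h2]
        exact mul_mem (inv_mem y.2) x.2
      · exfalso
        have h1 := congrArg Subtype.val h
        simp only [Ψ, Bool.false_eq_true, if_false, if_true] at h1
        apply D.hφ
        have h2 : D.φ = (x : G)⁻¹ * y := by
          rw [← h1]
          group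
        change D.φ ∈ D.A
        rw [h2]
        exact mul_mem (inv_mem x.2) y.2
      · have h1 := congrArg Subtype.val h
        simp only [Ψ, if_true] at h1
        have : (x : G) = y := mul_right_cancel h1
        simp [Subtype.ext this]
    · rintro ⟨g, hg | hg⟩
      · exact ⟨(⟨g, hg⟩, false), rfl⟩
      · refine ⟨(⟨g * D.φ, hg⟩, true), ?_⟩
        apply Subtype.ext
        change g * D.φ * D.φ = g
        rw [mul_assoc, D.φφ, mul_one]
  rw [← Nat.card_congr (Equiv.ofBijective Ψ hΨ), Nat.card_prod, hc]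
  simp
  ring

/-- generators inside `S`. -/
def α : D.S := ⟨D.a, D.a_mem⟩
def β : D.S := ⟨D.φ, D.φ_mem⟩

lemma ββ : D.β * D.β = 1 := Subtype.ext D.φφ

lemma β_inv : D.β⁻¹ = D.β := inv_eq_of_mul_eq_one_left D.ββ

lemma α_ord : orderOf D.α = 2 ^ (D.t + 1) := by
  rw [α, Subgroup.orderOf_mk, D.ord]

lemma conj_α : D.β * D.α * D.β⁻¹ = D.α ^ D.r := Subtype.ext D.conj

lemma conj_αz (k : ℤ) : D.β * D.α ^ k * D.β⁻¹ = (D.α ^ D.r) ^ k := by
  rw [← _root_.conj_zpow, D.conj_α]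

lemma mem_cases (x : D.S) : (∃ k : ℤ, x = D.α ^ k) ∨ (∃ k : ℤ, x = D.α ^ k * D.β) := by
  rcases x.2 with h | h
  · obtain ⟨k, hk⟩ := Subgroup.mem_zpowers_iff.1 h
    left
    refine ⟨k, Subtype.ext ?_⟩
    simpa [α] using hk.symm
  · obtain ⟨k, hk⟩ := Subgroup.mem_zpowers_iff.1 h
    right
    refine ⟨k, Subtype.ext ?_⟩
    have : ((x : D.S) : G) = D.a ^ k * D.φ := by
      rw [hk, mul_assoc, D.φφ, mul_one]
    simpa [α, β] using this

lemma r_eq : ∃ l : ℕ, D.r = 4 * l + 3 := ⟨D.r / 4, by have := D.r3; omega⟩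

lemma comm_mem : D.α ^ (1 - (D.r : ℤ)) ∈ commutator D.S := by
  have h := Subgroup.commutator_mem_commutator (mem_top D.α) (mem_top D.β)
  rw [← _root_.commutator_def, commutatorElement_def] at h
  have e : D.α * D.β * D.α⁻¹ * D.β⁻¹ = D.α ^ (1 - (D.r : ℤ)) := by
    have e1 : D.β * D.α⁻¹ * D.β⁻¹ = (D.α ^ D.r)⁻¹ := by
      rw [← D.conj_α]
      group
    calc D.α * D.β * D.α⁻¹ * D.β⁻¹ = D.α * (D.β * D.α⁻¹ * D.β⁻¹) := by group
      _ = D.α * (D.α ^ D.r)⁻¹ := by rw [e1]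
      _ = _ := by
        rw [zpow_sub, zpow_one, zpow_natCast]
  rwa [e] at h

lemma α_sq_mem : D.α ^ 2 ∈ commutator D.S := by
  obtain ⟨l, hl⟩ := D.r_eq
  have h1 := D.comm_mem
  have e : (1 - (D.r : ℤ)) = -2 * (2 * l + 1) := by
    rw [hl]
    push_cast
    ring
  rw [e] at h1
  have hcop : IsCoprime (2 * (l : ℤ) + 1) ((2 : ℤ) ^ (D.t + 1)) := by
    have h : Nat.Coprime (2 * l + 1) (2 ^ (D.t + 1)) :=
      Nat.Coprime.pow_right _ (by simp)
    have := Nat.isCoprime_iff_coprime.2 h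
    simpa using this
  obtain ⟨v, w, hvw⟩ := hcop
  have hord : D.α ^ ((2 : ℤ) ^ (D.t + 1)) = 1 := by
    have := pow_orderOf_eq_one D.α
    rw [D.α_ord] at this
    exact_mod_cast this
  have e2 : D.α ^ 2 = (D.α ^ ((-2 : ℤ) * (2 * l + 1))) ^ (-v) := by
    have : ((-2 : ℤ) * (2 * l + 1)) * (-v) = 2 * (v * (2 * l + 1)) := by ring
    rw [← zpow_mul, this]
    have e3 : (v * (2 * (l : ℤ) + 1)) = 1 - w * 2 ^ (D.t + 1) := by linarith
    rw [e3, mul_sub, zpow_sub, mul_one]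
    have e4 : (2 : ℤ) * (w * 2 ^ (D.t + 1)) = 2 * w * 2 ^ (D.t + 1) := by ring
    rw [e4, mul_comm (2 * w), zpow_mul, hord, one_zpow, inv_one, mul_one]
    exact_mod_cast rfl
  rw [e2]
  exact zpow_mem h1 _

/-- Squares lie in the derived subgroup. -/
theorem sq_mem (x : D.S) : x ^ 2 ∈ commutator D.S := by
  obtain ⟨l, hl⟩ := D.r_eq
  rcases D.mem_cases x with ⟨k, rfl⟩ | ⟨k, rfl⟩
  · have e : (D.α ^ k) ^ 2 = (D.α ^ 2) ^ k := by
      rw [← zpow_natCast, ← zpow_natCast, ← zpow_mul, ← zpow_mul, mul_comm]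
    rw [e]
    exact zpow_mem D.α_sq_mem _
  · have e : (D.α ^ k * D.β) ^ 2 = (D.α ^ 2) ^ (k * (2 * l + 2)) := by
      have e1 : D.β * D.α ^ k = (D.α ^ D.r) ^ k * D.β := by
        rw [← D.conj_αz]
        group
      calc (D.α ^ k * D.β) ^ 2 = D.α ^ k * (D.β * D.α ^ k) * D.β := by
            rw [pow_two]
            group
        _ = D.α ^ k * ((D.α ^ D.r) ^ k * D.β) * D.β := by rw [e1]
        _ = D.α ^ k * (D.α ^ D.r) ^ k * (D.β * D.β) := by group
        _ = D.α ^ k * (D.α ^ D.r) ^ k := by rw [D.ββ, mul_one]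
        _ = _ := by
          rw [← zpow_natCast, ← zpow_natCast, ← zpow_mul, ← zpow_mul, ← zpow_add, hl]
          congr 1
          push_cast
          ring
    rw [e]
    exact zpow_mem D.α_sq_mem _

/-- The central involution. -/
def ζ : D.S := D.α ^ (2 ^ D.t)

lemma ζ_sq : D.ζ ^ 2 = 1 := by
  rw [ζ, ← pow_mul, ← pow_succ, ← D.α_ord]
  exact pow_orderOf_eq_one _

lemma ζ_ne : D.ζ ≠ 1 := by
  intro h
  have h1 := orderOf_dvd_of_pow_eq_one h
  rw [D.α_ord] at h1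
  have h2 := Nat.le_of_dvd (by positivity) h1
  have h3 : 2 ^ D.t < 2 ^ (D.t + 1) := Nat.pow_lt_pow_right (by norm_num) (by omega)
  omega

lemma ζ_central (x : D.S) : x * D.ζ * x⁻¹ = D.ζ := by
  obtain ⟨l, hl⟩ := D.r_eq
  have hα : Commute D.α D.ζ := (Commute.refl D.α).pow_right _
  have hαz : ∀ k : ℤ, Commute (D.α ^ k) D.ζ := fun k => hα.zpow_left k
  have hβ : D.β * D.ζ * D.β⁻¹ = D.ζ := by
    rw [ζ, ← _root_.conj_pow, D.conj_α, ← pow_mul, mul_comm, pow_mul, ← ζ, hl]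
    rw [pow_add, pow_mul]
    have : D.ζ ^ 3 = D.ζ := by
      rw [pow_succ, D.ζ_sq, one_mul]
    rw [this, show D.ζ ^ 4 = (D.ζ ^ 2) ^ 2 by rw [← pow_mul], D.ζ_sq]
    simp
  have hβc : Commute D.β D.ζ := by
    rw [Commute, SemiconjBy]
    calc D.β * D.ζ = D.β * D.ζ * D.β⁻¹ * D.β := by group
      _ = D.ζ * D.β := by rw [hβ]
  rcases D.mem_cases x with ⟨k, rfl⟩ | ⟨k, rfl⟩
  · rw [(hαz k).eq]
    group
  · have hc : Commute (D.α ^ k * D.β) D.ζ := (hαz k).mul_left hβc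
    rw [hc.eq]
    group

theorem hasE : HasE D.S 1 := by
  refine ⟨zpowers D.ζ, ?_, ?_, ?_⟩
  · constructor
    rintro _ ⟨k, rfl⟩ x
    refine ⟨k, ?_⟩
    change D.ζ ^ k = x * D.ζ ^ k * x⁻¹
    rw [← _root_.conj_zpow, D.ζ_central]
  · constructor
    · refine ⟨⟨?_⟩⟩
      rintro ⟨_, k, rfl⟩ ⟨_, l, rfl⟩
      apply Subtype.ext
      exact (((Commute.refl D.ζ).zpow_left k).zpow_right l).eq
    · rintro _ ⟨k, rfl⟩
      change (D.ζ ^ k) ^ 2 = 1
      rw [← zpow_natCast, ← zpow_mul, mul_comm, zpow_mul, zpow_natCast, D.ζ_sq, one_zpow]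
  · rw [Nat.card_zpowers, orderOf_eq_prime D.ζ_sq D.ζ_ne, pow_one]

theorem nrk : NRk D.S 1 := by
  classical
  intro E hE hel
  obtain ⟨l, hl⟩ := D.r_eq
  have hsq : ∀ x ∈ E, x * x = 1 := fun x hx => by
    have := hel.2 x hx
    rwa [pow_two] at this
  have hno : ∀ x ∈ E, ∀ k : ℤ, x ≠ D.α ^ k * D.β := by
    rintro x hx k rfl
    have h1 : D.α * (D.α ^ k * D.β) * D.α⁻¹ ∈ E := hE.conj_mem _ hx _
    have h2 := mul_mem h1 (inv_mem hx)
    have e : D.α * (D.α ^ k * D.β) * D.α⁻¹ * (D.α ^ k * D.β)⁻¹ = D.α ^ (1 - (D.r : ℤ)) := by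
      have e1 : D.β * D.α⁻¹ * D.β⁻¹ = (D.α ^ D.r)⁻¹ := by
        rw [← D.conj_α]
        group
      have e2 : D.α * (D.α ^ k * D.β) * D.α⁻¹ * (D.α ^ k * D.β)⁻¹ =
          D.α ^ (1 + k) * (D.β * D.α⁻¹ * D.β⁻¹) * D.α ^ (-k) := by
        rw [zpow_add, zpow_one, zpow_neg]
        group
      rw [e2, e1, ← zpow_natCast, ← zpow_neg, ← zpow_add, ← zpow_add]
      congr 1
      ring
    rw [e] at h2
    have h3 := hsq _ h2
    rw [← zpow_add, ← orderOf_dvd_iff_zpow_eq_one, D.α_ord] at h3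
    obtain ⟨c, hc⟩ := h3
    obtain ⟨w, hw⟩ : ∃ w, D.t = w + 2 := ⟨D.t - 2, by have := D.ht; omega⟩
    rw [hw, hl] at hc
    push_cast at hc
    have e3 : (2 : ℤ) ^ (w + 2 + 1) = 8 * 2 ^ w := by ring
    rw [e3] at hc
    generalize (2 : ℤ) ^ w * c = u at hc
    have : 8 * ((2 : ℤ) ^ w * c) = 8 * (2 : ℤ) ^ w * c := by ring
    omega
  have hmem : ∀ x ∈ E, x = 1 ∨ x = D.ζ := by
    intro x hx
    rcases D.mem_cases x with ⟨k, rfl⟩ | ⟨k, rfl⟩
    · have h3 := hsq _ hx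
      rw [← zpow_add, ← orderOf_dvd_iff_zpow_eq_one, D.α_ord] at h3
      obtain ⟨c, hc⟩ := h3
      have e1 : k = 2 ^ D.t * c := by
        push_cast at hc
        rw [pow_succ] at hc
        linarith
      have e2 : D.α ^ k = D.ζ ^ c := by
        rw [e1, ζ, zpow_mul]
        norm_cast
      rw [e2]
      rcases Int.even_or_odd' c with ⟨d, rfl | rfl⟩
      · left
        rw [zpow_mul]
        have : D.ζ ^ (2 : ℤ) = 1 := by exact_mod_cast D.ζ_sq
        rw [this, one_zpow]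
      · right
        rw [zpow_add, zpow_mul]
        have : D.ζ ^ (2 : ℤ) = 1 := by exact_mod_cast D.ζ_sq
        rw [this, one_zpow, one_mul, zpow_one]
    · exact absurd rfl (hno _ hx k)
  have hsub : (E : Set D.S) ⊆ {1, D.ζ} := fun x hx => hmem x hx
  have h1 : Nat.card E = (E : Set D.S).ncard := Nat.card_coe_set_eq _
  rw [h1, pow_one]
  calc (E : Set D.S).ncard ≤ ({1, D.ζ} : Set D.S).ncard := Set.ncard_le_ncard hsub (Set.toFinite _)
    _ ≤ 2 := by
      have := Set.ncard_insert_le (1 : D.S) ({D.ζ} : Set D.S)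
      simpa using this

end SDData

end Cfsg.Agent.Lib.SpWreath.SD
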