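/-
Base groups for the Sylow `2`-subgroups of `GL_n(q)`: cyclic `2`-subgroups of `F^×` and the semidihedral
Sylow `2`-subgroup of `GL₂(q)`, `q ≡ 3 mod 4`.
-/
import Mathlib
import Cfsg.Agent.Lib.SpWreath.SD

set_option autoImplicit false
set_option linter.all false

namespace Cfsg.Agent.Lib.SpWreath.GLBase

open Module Subgroup
open Cfsg.Agent.Lib.SpWreath.Group Cfsg.Agent.Lib.SpWreath.NRank Cfsg.Agent.Lib.SpWreath.SD

universe u

/-- Units of an extension act by multiplication. -/
noncomputable def unitRep (F K : Type*) [Field F] [Field K] [Algebra F K] : Kˣ →* Module.End F K :=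
  (LinearEquiv.automorphismGroup.toLinearMapMonoidHom).comp (DistribMulAction.toModuleAut F K)

@[simp] lemma unitRep_apply (F K : Type*) [Field F] [Field K] [Algebra F K] (u : Kˣ) (x : K) :
    unitRep F K u x = u * x := rfl

lemma unitRep_injective (F K : Type*) [Field F] [Field K] [Algebra F K] :
    Function.Injective (unitRep F K) := by
  intro a b hab
  apply Units.ext
  have := congrArg (fun T : Module.End F K => T 1) hab
  simpa using this

lemma cyc_hasE {C : Type*} [CommGroup C] [Finite C] (h : Even (Nat.card C)) : HasE C 1 := by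
  obtain ⟨x, hx⟩ := exists_prime_orderOf_dvd_card' (G := C) 2 (even_iff_two_dvd.1 h)
  have hxx : x ^ 2 = 1 := by
    rw [← hx]
    exact pow_orderOf_eq_one _
  refine ⟨zpowers x, inferInstance, ?_, ?_⟩
  · constructor
    · refine ⟨⟨?_⟩⟩
      rintro ⟨a, -⟩ ⟨b, -⟩
      exact Subtype.ext (mul_comm a b)
    · rintro _ ⟨k, rfl⟩
      change (x ^ k) ^ 2 = 1
      rw [← zpow_natCast, ← zpow_mul, mul_comm, zpow_mul, zpow_natCast, hxx, one_zpow]
  · rw [Nat.card_zpowers, hx, pow_one]

lemma cyc_nrk {C : Type*} [CommGroup C] [IsCyclic C] [Finite C] : NRk C 1 := by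
  classical
  intro E _ hel
  haveI : Fintype C := Fintype.ofFinite C
  have h1 := IsCyclic.card_pow_eq_one_le (α := C) (n := 2) (by norm_num)
  have h2 : (E : Set C) ⊆ ((Finset.univ.filter fun a : C => a ^ 2 = 1 : Finset C) : Set C) := by
    intro x hx
    simpa using hel.2 x hx
  have h3 : Nat.card E = (E : Set C).ncard := Nat.card_coe_set_eq _
  rw [h3, pow_one]
  calc (E : Set C).ncard ≤ ((Finset.univ.filter fun a : C => a ^ 2 = 1 : Finset C) : Set C).ncard :=
        Set.ncard_le_ncard h2 (Set.toFinite _)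
    _ = _ := Set.ncard_coe_finset _
    _ ≤ 2 := h1

/-- The cyclic base. -/
theorem exists_cyc_base (F : Type u) [Field F] [Fintype F] (s : ℕ) (hs : 1 ≤ s)
    (h : 2 ^ s ∣ Fintype.card F - 1) :
    ∃ (D : Type u) (_ : Group D) (_ : Finite D) (f : D →* Module.End F F), Function.Injective f ∧
      Nat.card D = 2 ^ s ∧ HasE D 1 ∧ NRk D 1 := by
  classical
  obtain ⟨g, hg⟩ := IsCyclic.exists_generator (α := Fˣ)
  have hord : orderOf g = Fintype.card F - 1 := by
    rw [orderOf_eq_card_of_forall_mem_zpowers hg, Nat.card_eq_fintype_card, Fintype.card_units]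
  obtain ⟨c, hc⟩ := h
  have hq : 1 < Fintype.card F := Fintype.one_lt_card
  have hc0 : c ≠ 0 := by
    rintro rfl
    omega
  have hξ : orderOf (g ^ c) = 2 ^ s := by
    rw [orderOf_pow_of_dvd hc0 ⟨2 ^ s, by rw [hord, hc, mul_comm]⟩, hord, hc]
    exact Nat.mul_div_cancel _ (Nat.pos_of_ne_zero hc0)
  refine ⟨zpowers (g ^ c), inferInstance, inferInstance, (unitRep F F).comp (zpowers (g ^ c)).subtype, ?_, ?_, ?_, ?_⟩
  · exact (unitRep_injective F F).comp Subtype.val_injective
  · rw [Nat.card_zpowers, hξ]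
  · apply cyc_hasE
    rw [Nat.card_zpowers, hξ]
    exact (Nat.even_pow' (by omega)).2 (by norm_num)
  · exact cyc_nrk

section sd

variable (F : Type u) [Field F] [Fintype F] (K : Type) [Field K] [Algebra F K] [Finite K]

/-- The Frobenius as a linear automorphism. -/
noncomputable def frobL : K ≃ₗ[F] K := (FiniteField.frobeniusAlgEquivOfAlgebraic F K).toLinearEquiv

lemma frobL_apply (x : K) : frobL F K x = x ^ Fintype.card F := rfl

/-- multiplication by units as linear automorphisms. -/
noncomputable def mulL : Kˣ →* (K ≃ₗ[F] K) := DistribMulAction.toModuleAut F K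

lemma mulL_apply (u : Kˣ) (x : K) : mulL F K u x = u * x := rfl

lemma mulL_injective : Function.Injective (mulL F K) := by
  intro a b hab
  apply Units.ext
  have := congrArg (fun T : K ≃ₗ[F] K => T 1) hab
  simpa [mulL_apply] using this

/-- The semidihedral data. -/
noncomputable def sdData (hK : finrank F K = 2) (hq : Fintype.card F % 4 = 3) (ρ : Kˣ) (t : ℕ) (ht : 2 ≤ t)
    (hρ : orderOf ρ = 2 ^ (t + 1)) : SDData (K ≃ₗ[F] K) := by
  classical
  haveI : Fintype K := Fintype.ofFinite K
  have hcardK : Fintype.card K = Fintype.card F ^ 2 := by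
    rw [← hK, ← Nat.card_eq_fintype_card, ← Nat.card_eq_fintype_card, Module.natCard_eq_pow_finrank (K := F)]
  have hfrob : ∀ x : K, frobL F K (frobL F K x) = x := by
    intro x
    rw [frobL_apply, frobL_apply, ← pow_mul, ← pow_two, ← hcardK]
    exact FiniteField.pow_card x
  have hφφ : frobL F K * frobL F K = 1 := by
    apply LinearEquiv.ext
    intro x
    exact hfrob x
  have hinv : (frobL F K)⁻¹ = frobL F K := inv_eq_of_mul_eq_one_left hφφ
  refine
    { a := mulL F K ρ
      φ := frobL F K
      r := Fintype.card F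
      t := t
      ht := ht
      ord := by rw [orderOf_injective _ (mulL_injective F K), hρ]
      φφ := hφφ
      conj := ?_
      hφ := ?_
      r3 := hq }
  · rw [hinv, ← map_pow]
    apply LinearEquiv.ext
    intro x
    change frobL F K (ρ * frobL F K x) = ((ρ ^ Fintype.card F : Kˣ) : K) * x
    rw [frobL_apply, mul_pow, ← frobL_apply F K (frobL F K x), hfrob]
    simp
  · rintro ⟨k, hk⟩
    have h1 : (mulL F K ρ) ^ k = mulL F K (ρ ^ k) := (map_zpow _ _ _).symm
    have h2 : mulL F K (ρ ^ k) = frobL F K := by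
      rw [← h1]
      exact hk
    have h3 := congrArg (fun T : K ≃ₗ[F] K => T 1) h2
    simp only [mulL_apply, frobL_apply, one_pow, mul_one] at h3
    have h4 : ρ ^ k = 1 := Units.ext h3
    rw [h4, map_one] at h2
    have h5 := congrArg (fun T : K ≃ₗ[F] K => T ρ) h2
    have h6 : (ρ : K) = ρ ^ Fintype.card F := h5
    have h7 : ρ = ρ ^ Fintype.card F := Units.ext (by simpa using h6)
    have h8 : ρ ^ (Fintype.card F - 1) = 1 := by
      have hq1 : 1 ≤ Fintype.card F := Fintype.card_pos
      have : ρ ^ (Fintype.card F - 1) * ρ = ρ := by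
        rw [← pow_succ, Nat.sub_add_cancel hq1]
        exact h7.symm
      exact mul_eq_right.1 this
    have h9 := orderOf_dvd_of_pow_eq_one h8
    rw [hρ] at h9
    obtain ⟨c, hc⟩ := h9
    obtain ⟨w, rfl⟩ : ∃ w, t = w + 2 := ⟨t - 2, by omega⟩
    have e : 2 ^ (w + 2 + 1) = 8 * 2 ^ w := by ring
    rw [e] at hc
    generalize 2 ^ w = z at hc
    have e2 : 8 * z * c = 8 * (z * c) := by ring
    rw [e2] at hc
    omega

/-- The semidihedral base. -/
theorem exists_sd_base (hq : Fintype.card F % 4 = 3) (t w : ℕ) (hw : Odd w)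
    (htw : Fintype.card F + 1 = 2 ^ t * w) :
    ∃ (D V : Type) (_ : Group D) (_ : Finite D) (_ : AddCommGroup V) (_ : Module F V)
      (_ : FiniteDimensional F V) (f : D →* Module.End F V), Function.Injective f ∧ finrank F V = 2 ∧
      Nat.card D = 2 ^ (t + 2) ∧ (∀ x : D, x ^ 2 ∈ commutator D) ∧ HasE D 1 ∧ NRk D 1 := by
  classical
  have ht : 2 ≤ t := by
    by_contra hc
    have h3 : t = 0 ∨ t = 1 := by omega
    obtain ⟨w', rfl⟩ := hw
    rcases h3 with rfl | rfl
    · simp at htw
      omega
    · simp at htw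
      omega
  haveI : Fact (Nat.Prime (ringChar F)) := ⟨CharP.char_is_prime F (ringChar F)⟩
  haveI : NeZero 2 := ⟨by norm_num⟩
  let K := FiniteField.Extension F (ringChar F) 2
  have hK : finrank F K = 2 := FiniteField.finrank_extension F (ringChar F) 2
  haveI : Fintype K := Fintype.ofFinite K
  have hcardK : Fintype.card K = Fintype.card F ^ 2 := by
    rw [← hK, ← Nat.card_eq_fintype_card, ← Nat.card_eq_fintype_card, Module.natCard_eq_pow_finrank (K := F)]
  have hq1 : 1 < Fintype.card F := Fintype.one_lt_card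
  obtain ⟨g, hg⟩ := IsCyclic.exists_generator (α := Kˣ)
  have hord : orderOf g = Fintype.card F ^ 2 - 1 := by
    rw [orderOf_eq_card_of_forall_mem_zpowers hg, Nat.card_eq_fintype_card, Fintype.card_units, hcardK]
  obtain ⟨c', hc'⟩ : ∃ c', Fintype.card F - 1 = 2 * c' := ⟨(Fintype.card F - 1) / 2, by omega⟩
  have hfac : Fintype.card F ^ 2 - 1 = 2 ^ (t + 1) * (w * c') := by
    have e : Fintype.card F ^ 2 - 1 = (Fintype.card F + 1) * (Fintype.card F - 1) := by
      generalize Fintype.card F = q at hq1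
      obtain ⟨r, rfl⟩ : ∃ r, q = r + 1 := ⟨q - 1, by omega⟩
      simp only [Nat.add_sub_cancel]
      have : (r + 1) ^ 2 = (r + 1 + 1) * r + 1 := by ring
      rw [this, Nat.add_sub_cancel]
    rw [e, htw, hc', pow_succ]
    ring
  have hne : (w * c') ≠ 0 := by
    intro h0
    rw [h0, mul_zero] at hfac
    have : 1 < Fintype.card F ^ 2 := Nat.one_lt_pow (by norm_num) hq1
    omega
  have hρ : orderOf (g ^ (w * c')) = 2 ^ (t + 1) := by
    rw [orderOf_pow_of_dvd hne ⟨2 ^ (t + 1), by rw [hord, hfac, mul_comm]⟩, hord, hfac]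
    exact Nat.mul_div_cancel _ (Nat.pos_of_ne_zero hne)
  let D := sdData F K hK hq (g ^ (w * c')) t ht hρ
  haveI : Finite (K ≃ₗ[F] K) := Finite.of_injective (fun e : K ≃ₗ[F] K => (e : K → K)) DFunLike.coe_injective
  refine ⟨D.S, K, inferInstance, inferInstance, inferInstance, inferInstance, inferInstance,
    (LinearEquiv.automorphismGroup.toLinearMapMonoidHom).comp D.S.subtype, ?_, hK, ?_, D.sq_mem, D.hasE, D.nrk⟩
  · intro a b hab
    apply Subtype.ext
    apply LinearEquiv.ext
    intro x
    exact congrArg (fun T : Module.End F K => T x) hab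
  · rw [D.card_S]
    change 2 * 2 ^ (t + 1) = _
    rw [pow_succ 2 (t + 1)]
    ring

end sd

end Cfsg.Agent.Lib.SpWreath.GLBase
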