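/-
The tower for `q ≡ 3 mod 4`: Sylow `2`-subgroups of `GL_{2m}(q)`, `SL_{2m}(q)` and `SL_{2m+1}(q)`.
-/
import Mathlib
import Cfsg.Agent.Lib.SpWreath.DetW
import Cfsg.Agent.Lib.SpWreath.GLBase
import Cfsg.Agent.Lib.SpWreath.GLVal

set_option autoImplicit false
set_option linter.all false

namespace Cfsg.Agent.Lib.SpWreath.SLTower

open Module Subgroup RegularWreathProduct
open Cfsg.Agent.Lib.SpWreath.Rep Cfsg.Agent.Lib.SpWreath.Group Cfsg.Agent.Lib.SpWreath.NRank
open Cfsg.Agent.Lib.SpWreath.NPow Cfsg.Agent.Lib.SpWreath.GenTower Cfsg.Agent.Lib.SpWreath.DetW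
open Cfsg.Agent.Lib.SpWreath.GLVal Cfsg.Agent.Lib.SpWreath.GLBase
open Cfsg.Agent.S4015
open scoped Nat

universe u

variable (F : Type u) [Field F]

/-- The predicate along the tower. -/
def PrT (D : Type) [Group D] (V : Type) [AddCommGroup V] [Module F V] (f : D →* Module.End F V) (k : ℕ) : Prop :=
  finrank F V = 2 * k ∧ (∀ x : D, x ^ 2 ∈ commutator D) ∧ NPow (detHom f) ∧
    (∀ x, detHom f x = 1 ∨ detHom f x = -1) ∧ (1 ≤ k → ∃ x, detHom f x = -1) ∧ (k = 0 → Subsingleton D)

theorem closed_PrT : Closed (F := F) (PrT F) := by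
  refine ⟨?_, ?_, ?_⟩
  · refine ⟨Module.finrank_zero_of_subsingleton, fun x => ?_, fun x _ => ?_, fun x => Or.inl ?_, by simp, fun _ => inferInstance⟩
    · have : x ^ 2 = 1 := Subsingleton.elim _ _
      rw [this]
      exact one_mem _
    · have : x ^ 2 = 1 := Subsingleton.elim _ _
      rw [this]
      exact one_mem _
    · rw [Subsingleton.elim x 1, map_one]
  · rintro D _ _ V _ _ _ _ f k hk ⟨h1, h2, h3, h4, h5, -⟩
    have hdet : ∀ x : D ≀ᵣ C2, detHom (wreathRep f) x = 1 ∨ detHom (wreathRep f) x = -1 := by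
      intro x
      have hprod : ∀ a b : D, detHom f a * detHom f b = 1 ∨ detHom f a * detHom f b = -1 := by
        intro a b
        rcases h4 a with h | h <;> rcases h4 b with h' | h' <;> rw [h, h'] <;> simp
      by_cases hr : x.right = 1
      · rw [eq_bp hr]
        have e : detHom (wreathRep f) (bp (x.left 1) (x.left (Multiplicative.ofAdd 1))) = _ := det_bp f _ _
        rw [e]
        exact hprod _ _
      · rw [eq_bp_yy hr, map_mul]
        have e : detHom (wreathRep f) (bp (x.left 1) (x.left (Multiplicative.ofAdd 1))) = _ := det_bp f _ _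
        have e2 : detHom (wreathRep f) (yy : D ≀ᵣ C2) = 1 := det_yy f (by rw [h1]; exact even_two_mul k)
        rw [e, e2, mul_one]
        exact hprod _ _
    refine ⟨?_, wreath_pow_mem Cfsg.Agent.Lib.SpWreath.Tower.C2_sq h2, npow_wreathRep f (by rw [h1]; exact even_two_mul k) h3,
      hdet, fun _ => ?_, fun h0 => by omega⟩
    · rw [Module.finrank_pi_fintype]
      simp only [Finset.sum_const, Finset.card_univ, smul_eq_mul, h1]
      rw [← Nat.card_eq_fintype_card, card_C2]
    · obtain ⟨t, ht⟩ := h5 hk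
      refine ⟨bp t 1, ?_⟩
      have e : detHom (wreathRep f) (bp t (1 : D)) = _ := det_bp f _ _
      rw [e]
      have : LinearMap.det (f 1) = 1 := by simp
      rw [this, mul_one]
      exact ht
  · rintro D₁ D₂ _ _ _ _ V₁ V₂ _ _ _ _ _ _ f₁ f₂ k l hk ⟨a1, a2, a3, a4, a5, -⟩ ⟨b1, b2, b3, b4, b5, b6⟩
    refine ⟨?_, prod_pow_mem a2 b2, ?_, ?_, ?_, fun h0 => by omega⟩
    · rw [Module.finrank_prod, a1, b1]
      ring
    · rw [detHom_prod]
      rcases Nat.eq_zero_or_pos l with h0 | h0
      · haveI := b6 h0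
        exact npow_prod_sub a3
      · obtain ⟨t₁, ht₁⟩ := a5 hk
        obtain ⟨t₂, ht₂⟩ := b5 h0
        exact npow_prod (e := -1) (by simp) a4 b4 ht₁ ht₂ a2 b2
    · intro x
      rw [detHom_prod, prodHom_apply]
      rcases a4 x.1 with h | h <;> rcases b4 x.2 with h' | h' <;> rw [h, h'] <;> simp
    · intro _
      obtain ⟨t₁, ht₁⟩ := a5 hk
      refine ⟨(t₁, 1), ?_⟩
      rw [detHom_prod, prodHom_apply, ht₁, map_one, mul_one]

variable [Fintype F]

/-- Elements of `2`-power order in `F`, `q ≡ 3 mod 4`. -/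
lemma eq_one_or_neg (hq : Fintype.card F % 4 = 3) (y : F) (k : ℕ) (hy : y ^ 2 ^ k = 1) : y = 1 ∨ y = -1 := by
  classical
  have hy0 : y ≠ 0 := by
    rintro rfl
    rw [zero_pow (by positivity)] at hy
    exact zero_ne_one hy
  have h1 : y ^ (Fintype.card F - 1) = 1 := FiniteField.pow_card_sub_one_eq_one y hy0
  have h2 := pow_gcd_eq_one.2 ⟨hy, h1⟩
  obtain ⟨c, hc⟩ : ∃ c, Fintype.card F - 1 = 2 * (2 * c + 1) := ⟨(Fintype.card F - 3) / 4, by
    have := Fintype.one_lt_card (α := F)
    omega⟩
  have h3 : (2 ^ k).gcd (Fintype.card F - 1) ∣ 2 := by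
    have hc1 : Nat.Coprime (2 ^ k) (2 * c + 1) :=
      Nat.Coprime.pow_left _ ((Nat.Prime.coprime_iff_not_dvd Nat.prime_two).2 (by omega))
    have hc2 : Nat.Coprime ((2 ^ k).gcd (Fintype.card F - 1)) (2 * c + 1) :=
      Nat.Coprime.coprime_dvd_left (Nat.gcd_dvd_left _ _) hc1
    have h5 : (2 ^ k).gcd (Fintype.card F - 1) ∣ 2 * (2 * c + 1) := by
      rw [← hc]
      exact Nat.gcd_dvd_right _ _
    exact hc2.dvd_of_dvd_mul_right h5
  have h4 : y ^ 2 = 1 := by
    obtain ⟨d, hd⟩ := h3
    rw [hd, pow_mul, h2, one_pow]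
  rcases mul_eq_zero.1 (show (y - 1) * (y + 1) = 0 by linear_combination h4) with h | h
  · left
    linear_combination h
  · right
    linear_combination h

/-- The base of the tower. -/
theorem exists_base (hodd : Odd (Fintype.card F)) (hq : Fintype.card F % 4 = 3) :
    ∃ (D V : Type) (_ : Group D) (_ : Finite D) (_ : AddCommGroup V) (_ : Module F V)
      (_ : FiniteDimensional F V) (f : D →* Module.End F V) (s : ℕ), Function.Injective f ∧ finrank F V = 2 ∧
      Nat.card D = 2 ^ s ∧ s = padicValNat 2 (Fintype.card F + 1) + 2 ∧ PrT F D V f 1 := by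
  classical
  haveI : Fact (Nat.Prime 2) := ⟨Nat.prime_two⟩
  have hq1 : 1 < Fintype.card F := Fintype.one_lt_card
  obtain ⟨t, w, hw, htw⟩ := Nat.exists_eq_two_pow_mul_odd (n := Fintype.card F + 1) (by omega)
  have ht : padicValNat 2 (Fintype.card F + 1) = t := by
    rw [htw, padicValNat.mul (by positivity) hw.pos.ne', padicValNat.prime_pow,
      padicValNat.eq_zero_of_not_dvd (fun h => (Nat.not_even_iff_odd.2 hw) (even_iff_two_dvd.2 h))]
    rfl
  obtain ⟨D, V, _, _, _, _, _, f, hf, hV, hc, hp, -, -⟩ := exists_sd_base F hq t w hw htw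
  have hfac : (Nat.card (Matrix.GeneralLinearGroup (Fin 2) F)).factorization 2 = t + 2 := by
    rw [Nat.factorization_def _ Nat.prime_two, Matrix.card_GL_field]
    have := (val_glp_three _ hq hq1 1).1
    simp only [glp, mul_one, Nat.factorial_one, padicValNat.one, add_zero, ht, one_mul] at this
    exact this
  have hc' : Nat.card D = 2 ^ (Nat.card (Matrix.GeneralLinearGroup (Fin 2) F)).factorization 2 := by
    rw [hfac, hc]
  have hval : ∀ x : D, detHom f x = 1 ∨ detHom f x = -1 := by
    intro x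
    apply eq_one_or_neg F hq _ (t + 2)
    rw [← map_pow, ← hc, pow_card_eq_one', map_one]
  have hex : ∃ x, detHom f x = -1 := by
    by_contra hcon
    push Not at hcon
    have hall : ∀ x, detHom f x = 1 := fun x => (hval x).resolve_right (hcon x)
    have h1 := card_ker_det 2 (by norm_num) f hf hV hc'
    have htop : (detHom f).ker = ⊤ := by
      ext x
      simp [MonoidHom.mem_ker, hall x]
    rw [htop, Subgroup.card_top, hc] at h1
    have h2 := Cfsg.Agent.Lib.Classical.SLBasic.card_gl_eq_mul_card_sl (ι := Fin 2) (F := F)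
    have hv1 : padicValNat 2 (Fintype.card F - 1) = 1 := by
      have := val_odd_three _ 1 hq (by norm_num)
      simpa using this
    have h3 : (Nat.card (Matrix.GeneralLinearGroup (Fin 2) F)).factorization 2 =
        1 + (Nat.card (Matrix.SpecialLinearGroup (Fin 2) F)).factorization 2 := by
      rw [h2, Nat.factorization_mul (by omega) Nat.card_pos.ne']
      simp only [Finsupp.add_apply]
      rw [Nat.factorization_def _ Nat.prime_two, hv1]
    have h4 := Nat.pow_right_injective (le_refl 2) h1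
    omega
  refine ⟨D, V, inferInstance, inferInstance, inferInstance, inferInstance, inferInstance, f, t + 2, hf, hV, hc,
    by rw [ht], hV.trans (by norm_num), hp, npow_base hodd f hf hV hc', hval, fun _ => hex, by simp⟩

/-- The tower. -/
theorem exists_T (hodd : Odd (Fintype.card F)) (hq : Fintype.card F % 4 = 3) (m : ℕ) :
    ∃ (D V : Type) (_ : Group D) (_ : Finite D) (_ : AddCommGroup V) (_ : Module F V)
      (_ : FiniteDimensional F V) (f : D →* Module.End F V), Function.Injective f ∧
      Nat.card D = 2 ^ (Nat.card (Matrix.GeneralLinearGroup (Fin (2 * m)) F)).factorization 2 ∧ PrT F D V f m := by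
  classical
  haveI : Fact (Nat.Prime 2) := ⟨Nat.prime_two⟩
  have hq1 : 1 < Fintype.card F := Fintype.one_lt_card
  obtain ⟨D₀, V₀, _, _, _, _, _, f₀, s, hf₀, hV₀, hc₀, hs, hP₀⟩ := exists_base F hodd hq
  obtain ⟨D, _, _, V, _, _, _, f, hf, hV, hc, hP⟩ := exists_all (closed_PrT F) D₀ V₀ f₀ hf₀ s 2 hc₀ hV₀ (by norm_num) hP₀ m
  refine ⟨D, V, inferInstance, inferInstance, inferInstance, inferInstance, inferInstance, f, hf, ?_, hP⟩
  rw [hc, Nat.factorization_def _ Nat.prime_two, Matrix.card_GL_field]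
  have := (val_glp_three _ hq hq1 m).1
  simp only [glp] at this
  rw [this, hs]

/-- `SL_{2m}`, `q ≡ 3 mod 4`. -/
theorem sq_SL_even (hodd : Odd (Fintype.card F)) (hq : Fintype.card F % 4 = 3) (m : ℕ) (hm : 1 ≤ m)
    (P : Sylow 2 (Matrix.SpecialLinearGroup (Fin (2 * m)) F))
    (x : (P : Subgroup (Matrix.SpecialLinearGroup (Fin (2 * m)) F))) :
    x ^ 2 ∈ commutator (P : Subgroup (Matrix.SpecialLinearGroup (Fin (2 * m)) F)) := by
  obtain ⟨D, V, _, _, _, _, _, f, hf, hc, hV, -, h3, -⟩ := exists_T F hodd hq m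
  obtain ⟨e⟩ := sylow_ker_det (2 * m) (by omega) f hf hV hc P
  exact sq_of_equiv e h3.sq_mem x

/-- `SL_{2m+1}`, `q ≡ 3 mod 4`. -/
theorem sq_SL_odd (hodd : Odd (Fintype.card F)) (hq : Fintype.card F % 4 = 3) (m : ℕ)
    (P : Sylow 2 (Matrix.SpecialLinearGroup (Fin (2 * m + 1)) F))
    (x : (P : Subgroup (Matrix.SpecialLinearGroup (Fin (2 * m + 1)) F))) :
    x ^ 2 ∈ commutator (P : Subgroup (Matrix.SpecialLinearGroup (Fin (2 * m + 1)) F)) := by
  classical
  haveI : Fact (Nat.Prime 2) := ⟨Nat.prime_two⟩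
  have hq1 : 1 < Fintype.card F := Fintype.one_lt_card
  obtain ⟨D, V, _, _, _, _, _, f, hf, hc, hV, h2, -, h4, -⟩ := exists_T F hodd hq m
  -- multiplication by the determinant on `F`
  let χ : D →* Module.End F F :=
    { toFun := fun d => LinearMap.mulLeft F (detHom f d)
      map_one' := by
        ext
        simp
      map_mul' := fun a b => by
        ext
        simp }
  let f' : D →* Module.End F (V × F) :=
    { toFun := fun d => LinearMap.prodMap (f d) (χ d)
      map_one' := by
        ext <;> simp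
      map_mul' := fun a b => by
        ext <;> simp }
  have hf' : Function.Injective f' := by
    intro a b hab
    apply hf
    ext v
    have := congrArg (fun T => (T (v, 0)).1) hab
    simpa [f'] using this
  have hdet : ∀ d, LinearMap.det (f' d) = 1 := by
    intro d
    have h1 : LinearMap.det (f' d) = LinearMap.det (f d) * LinearMap.det (χ d) := LinearMap.det_prodMap _ _
    have h2 : χ d = (detHom f d) • LinearMap.id := by
      ext
      simp [χ]
    rw [h1, h2, LinearMap.det_smul, LinearMap.det_id]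
    simp only [Module.finrank_self, pow_one, mul_one]
    rcases h4 d with h | h
    · change detHom f d * _ = 1
      rw [h]
      simp
    · change detHom f d * _ = 1
      rw [h]
      simp
  obtain ⟨g, hg⟩ := toSL (2 * m + 1) (by
    rw [Module.finrank_prod, hV]
    simp) f' hf' hdet
  have hcard : Nat.card D = 2 ^ (Nat.card (Matrix.SpecialLinearGroup (Fin (2 * m + 1)) F)).factorization 2 := by
    rw [hc]
    congr 1
    have e1 := Cfsg.Agent.Lib.Classical.SLBasic.card_gl_eq_mul_card_sl (ι := Fin (2 * m + 1)) (F := F)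
    have hv1 : padicValNat 2 (Fintype.card F - 1) = 1 := by
      have := val_odd_three _ 1 hq (by norm_num)
      simpa using this
    have h3 : (Nat.card (Matrix.GeneralLinearGroup (Fin (2 * m + 1)) F)).factorization 2 =
        1 + (Nat.card (Matrix.SpecialLinearGroup (Fin (2 * m + 1)) F)).factorization 2 := by
      rw [e1, Nat.factorization_mul (by omega) Nat.card_pos.ne']
      simp only [Finsupp.add_apply]
      rw [Nat.factorization_def _ Nat.prime_two, hv1]
    have h5 := (val_glp_three _ hq hq1 m)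
    simp only [glp] at h5
    have h6 : (Nat.card (Matrix.GeneralLinearGroup (Fin (2 * m)) F)).factorization 2 =
        padicValNat 2 (∏ i : Fin (2 * m), (Fintype.card F ^ (2 * m) - Fintype.card F ^ (i : ℕ))) := by
      rw [Nat.factorization_def _ Nat.prime_two, Matrix.card_GL_field]
    have h7 : (Nat.card (Matrix.GeneralLinearGroup (Fin (2 * m + 1)) F)).factorization 2 =
        padicValNat 2 (∏ i : Fin (2 * m + 1), (Fintype.card F ^ (2 * m + 1) - Fintype.card F ^ (i : ℕ))) := by
      rw [Nat.factorization_def _ Nat.prime_two, Matrix.card_GL_field]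
    rw [h6, h5.1]
    rw [h7, h5.2] at h3
    omega
  obtain ⟨e⟩ := sylow_equiv g hg hcard P
  exact sq_of_equiv e h2 x

end Cfsg.Agent.Lib.SpWreath.SLTower
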